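import Mathlib
import Cfsg.Agent.TH.Soc
import Cfsg.Prelude.Def_Transfer
import Cfsg.Agent.PermutationGroups.TwoTransitiveNormal
import Cfsg.Agent.S3356
import Cfsg.Agent.H912.KnownSplit
import Cfsg.Agent.S0252
import Cfsg.Agent.S0254
import Cfsg.Prelude.Def_Local
import Cfsg.Agent.SB.Cl.Cent_m3
import Cfsg.Agent.DS.Cl.Main
import Cfsg.Agent.ClassicalGeometry.SympAutSemi
import Cfsg.Agent.FastGrp
import Cfsg.Agent.Prune
set_option linter.all false

section
prune_inst 0x7f00000000000000000000000000000000000000000000000000000000000000000000000000000000000000000000000000000000000000000000000000000000000000000000000000000000000000003fffffffffffffffffffffffffffbeffbdffffffff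

-- part: TH/Alt/Base
section
set_option linter.all false
open scoped Cfsg.Agent.FastGrp

/-!
# S3541, alternating socles: counting lemmas (helper72)
-/

set_option autoImplicit false
set_option linter.unusedSectionVars false

namespace Cfsg.Agent.TH.Alt

open Equiv Equiv.Perm MulAction

variable {α : Type*} [Fintype α] [DecidableEq α]

theorem ap_inv (σ : Perm α) (a : α) : σ (σ⁻¹ a) = a := σ.apply_symm_apply a

theorem inv_ap (σ : Perm α) (a : α) : σ⁻¹ (σ a) = a := σ.symm_apply_apply a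

/-- the stabiliser of the point `x` in `X` -/
def St (X : Subgroup (Perm α)) (x : α) : Subgroup (Perm α) := X ⊓ stabilizer (Perm α) x

theorem card_St (X : Subgroup (Perm α)) (x : α) : Nat.card X = (orbit X x).ncard * Nat.card (St X x) := by
  have h1 : Nat.card (orbit X x) * Nat.card (stabilizer X x) = Nat.card X := by
    rw [← Nat.card_prod]
    exact Nat.card_congr (orbitProdStabilizerEquivGroup _ x)
  have h2 : Nat.card (stabilizer X x) = Nat.card (St X x) := Nat.card_congr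
    { toFun := fun a => ⟨a.1.1, a.1.2, a.2⟩
      invFun := fun a => ⟨⟨a.1, a.2.1⟩, a.2.2⟩
      left_inv := fun _ => rfl
      right_inv := fun _ => rfl }
  rw [← h1, h2, Nat.card_coe_set_eq]

theorem card_St_ge {X : Subgroup (Perm α)} {x : α} (T : Finset α) (h : ∀ t ∈ T, ∃ σ ∈ X, σ x = t) :
    T.card * Nat.card (St X x) ≤ Nat.card X := by
  rw [card_St X x]
  refine Nat.mul_le_mul_right _ ?_
  rw [← Set.ncard_coe_finset]
  refine Set.ncard_le_ncard fun t ht => ?_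
  obtain ⟨σ, h1, h2⟩ := h t ht
  exact ⟨⟨σ, h1⟩, h2⟩

theorem card_St_le {X : Subgroup (Perm α)} {x : α} (T : Finset α) (h : ∀ σ ∈ X, σ x ∈ T) :
    Nat.card X ≤ T.card * Nat.card (St X x) := by
  rw [card_St X x]
  refine Nat.mul_le_mul_right _ ?_
  rw [← Set.ncard_coe_finset]
  refine Set.ncard_le_ncard ?_
  rintro _ ⟨σ, rfl⟩
  exact h σ σ.2

theorem card_mono {X Y : Subgroup (Perm α)} (h : X ≤ Y) : Nat.card X ≤ Nat.card Y := Subgroup.card_le_of_le h

/-- comparison of the two point stabilisers computed in the full symmetric group -/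
def Cmp (W : Subgroup (Perm α)) : Prop :=
  ∀ g₁, g₁ ∉ W → ∀ g₂, g₂ ∉ W → (∃ τ ∈ W ⊓ cj g₂ W, sign τ = -1) →
    Nat.card ↥(W ⊓ cj g₁ W) ≤ Nat.card ↥(W ⊓ cj g₂ W)

theorem sign_eq_neg {σ : Perm α} (h : σ ∉ alternatingGroup α) : sign σ = -1 :=
  (Int.units_eq_one_or (sign σ)).resolve_left h

theorem eq_or_top {Γ : Subgroup (Perm α)} (hA : alternatingGroup α ≤ Γ) : Γ = alternatingGroup α ∨ Γ = ⊤ := by
  by_cases h : Γ ≤ alternatingGroup α
  · exact Or.inl (le_antisymm h hA)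
  · obtain ⟨τ, h1, h2⟩ := SetLike.not_le_iff_exists.1 h
    refine Or.inr (eq_top_iff.2 fun σ _ => ?_)
    by_cases h3 : σ ∈ alternatingGroup α
    · exact hA h3
    · have h4 : σ * τ ∈ alternatingGroup α := by
        rw [mem_alternatingGroup, map_mul, sign_eq_neg h2, sign_eq_neg h3]; simp
      exact (Γ.mul_mem_cancel_right h1).1 (hA h4)

theorem card_subgroupOf_mul {G : Type*} [Group G] (X Γ : Subgroup G) :
    Nat.card (X.subgroupOf Γ) * Γ.relIndex X = Nat.card X := by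
  rw [← (Γ.subgroupOf X).card_mul_index, Subgroup.relIndex]
  congr 1
  exact Nat.card_congr
    { toFun := fun a => ⟨⟨a.1.1, a.2⟩, a.1.2⟩
      invFun := fun a => ⟨⟨a.1.1, a.2⟩, a.1.2⟩
      left_inv := fun _ => rfl
      right_inv := fun _ => rfl }

theorem relIndex_alt_dvd (X : Subgroup (Perm α)) : (alternatingGroup α).relIndex X ∣ 2 := by
  refine (Subgroup.relIndex_dvd_index_of_normal _ _).trans ?_
  rcases subsingleton_or_nontrivial α with h | h
  · rw [Subsingleton.elim (alternatingGroup α) ⊤, Subgroup.index_top]; exact one_dvd _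
  · rw [alternatingGroup.index_eq_two]

theorem relIndex_alt_eq {X : Subgroup (Perm α)} {τ : Perm α} (h1 : τ ∈ X) (h2 : sign τ = -1) :
    (alternatingGroup α).relIndex X = 2 := by
  rcases (Nat.dvd_prime Nat.prime_two).1 (relIndex_alt_dvd X) with h | h
  · have h3 := Subgroup.relIndex_eq_one.1 h h1
    rw [mem_alternatingGroup, h2] at h3
    exact absurd h3 (by decide)
  · exact h

theorem cj_subgroupOf {G : Type*} [Group G] {Γ : Subgroup G} (W : Subgroup G) (g : Γ) :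
    cj g (W.subgroupOf Γ) = (cj (g : G) W).subgroupOf Γ := by
  ext x
  rw [mem_cj, Subgroup.mem_subgroupOf, Subgroup.mem_subgroupOf, mem_cj]
  rfl

theorem card_two_point {Γ W : Subgroup (Perm α)} (hA : alternatingGroup α ≤ Γ) {m : ℕ}
    (hH : Half (W.subgroupOf Γ) m) {τ : Perm α} (h1 : τ ∈ W) (h2 : sign τ = -1) {g : Perm α} (hg : g ∉ W) :
    m * Γ.relIndex (W ⊓ cj g W) = Nat.card ↥(W ⊓ cj g W) := by
  have h3 : ∃ g' : Γ, (g' : Perm α) ∉ W ∧ cj (g' : Perm α) W = cj g W := by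
    by_cases h : g ∈ alternatingGroup α
    · exact ⟨⟨g, hA h⟩, hg, rfl⟩
    · refine ⟨⟨g * τ, hA ?_⟩, fun h4 => hg ((W.mul_mem_cancel_right h1).1 h4), ?_⟩
      · rw [mem_alternatingGroup, map_mul, sign_eq_neg h, h2]; simp
      · rw [cj_mul, cj_of_mem h1]
  obtain ⟨g', h4, h5⟩ := h3
  rw [← card_subgroupOf_mul _ Γ, ← hH.card_inf g' h4, cj_subgroupOf, h5]
  rfl

theorem cmp_of {Γ W : Subgroup (Perm α)} (hA : alternatingGroup α ≤ Γ) {m : ℕ} (hH : Half (W.subgroupOf Γ) m) :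
    Cmp W := by
  rintro g₁ h1 g₂ h2 ⟨τ, h3, h4⟩
  rw [← card_two_point hA hH h3.1 h4 h1, ← card_two_point hA hH h3.1 h4 h2]
  refine Nat.mul_le_mul_left _ ?_
  rcases eq_or_top hA with rfl | rfl
  · rw [relIndex_alt_eq h3 h4]
    exact Nat.le_of_dvd two_pos (relIndex_alt_dvd _)
  · simp

/-- a maximal subgroup is the full stabiliser -/
theorem eq_subgroupOf {Γ W : Subgroup (Perm α)} (hA : alternatingGroup α ≤ Γ) {H : Subgroup Γ} {m : ℕ}
    (hH : Half H m) (h1 : H.map Γ.subtype ≤ W) (h2 : ¬ alternatingGroup α ≤ W) : H = W.subgroupOf Γ := by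
  by_contra h
  have h3 : H ≤ W.subgroupOf Γ := Subgroup.map_le_iff_le_comap.1 h1
  have h4 := hH.max.2 _ (lt_of_le_of_ne h3 h)
  exact h2 (hA.trans (Subgroup.subgroupOf_eq_top.1 h4))

theorem not_alt_le {Γ : Subgroup (Perm α)} (hA : alternatingGroup α ≤ Γ) (hn : 3 ≤ Fintype.card α)
    {H : Subgroup Γ} {m : ℕ} (hH : Half H m) : ¬ alternatingGroup α ≤ H.map Γ.subtype := by
  intro h
  have h1 : (alternatingGroup α).subgroupOf Γ ≤ H := fun x hx => by
    obtain ⟨y, hy, hyx⟩ := h hx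
    rwa [← Subtype.ext hyx]
  have h2 := hH.eq_bot_of_normal h1
  rw [Subgroup.subgroupOf_eq_bot, disjoint_iff, inf_eq_left.2 hA] at h2
  have h3 : Nontrivial (alternatingGroup α) := alternatingGroup.nontrivial_of_three_le_card (by simpa using hn)
  rw [h2] at h3
  exact not_nontrivial _ h3

/-- a permutation fixing `x` and `y` commutes with the transposition -/
theorem mem_cj_swap {W : Subgroup (Perm α)} {σ : Perm α} {x y : α} (h : σ ∈ W)
    (h1 : (σ x = x ∧ σ y = y) ∨ (σ x = y ∧ σ y = x)) : σ ∈ W ⊓ cj (swap x y) W := by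
  refine ⟨h, mem_cj.2 ?_⟩
  have h2 : σ * swap x y = swap x y * σ := by
    rw [mul_swap_eq_swap_mul]
    rcases h1 with ⟨h1, h2⟩ | ⟨h1, h2⟩
    · rw [h1, h2]
    · rw [h1, h2, swap_comm]
  rwa [mul_assoc, h2, inv_mul_cancel_left]

end Cfsg.Agent.TH.Alt
end

-- part: TH/Alt/Gen
section
set_option linter.all false
open scoped Cfsg.Agent.FastGrp

/-!
# S3541, alternating socles: general facts about `Half H m` (helper72)
-/

set_option autoImplicit false
set_option linter.unusedSectionVars false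

namespace Cfsg.Agent.TH.Alt

open MulAction

variable {G : Type*} [Group G] [Finite G] {H : Subgroup G} {m : ℕ}

/-- a subgroup of index prime to `r` contains a conjugate of every `r`-subgroup -/
theorem exists_cj_le_of_not_dvd {r : ℕ} [Fact r.Prime] (h : ¬ r ∣ H.index) {Y : Subgroup G} (hY : IsPGroup r Y) :
    ∃ g, cj g Y ≤ H := by
  obtain ⟨P, -, hP⟩ := exists_sylow_le_of_not_dvd_index h (Y := ⊥) IsPGroup.of_bot bot_le
  obtain ⟨Q, hQ⟩ := hY.exists_le_sylow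
  obtain ⟨a, ha⟩ := exists_smul_eq G Q P
  refine ⟨a, le_trans ?_ hP⟩
  rintro _ ⟨y, hy, rfl⟩
  rw [← ha]
  exact ⟨y, hQ hy, rfl⟩

theorem isPGroup_zpowers {r k : ℕ} {x : G} (h : orderOf x = r ^ k) : IsPGroup r (Subgroup.zpowers x) :=
  IsPGroup.of_card (by rw [Nat.card_zpowers, h])

theorem exists_conj_mem {r : ℕ} (hr : r.Prime) (h : ¬ r ∣ H.index) {x : G} (hx : orderOf x = r) :
    ∃ g, g * x * g⁻¹ ∈ H := by
  have := Fact.mk hr
  obtain ⟨g, hg⟩ := exists_cj_le_of_not_dvd h (isPGroup_zpowers (k := 1) (by rw [hx, pow_one]))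
  exact ⟨g, hg (conj_mem_cj g (Subgroup.mem_zpowers x))⟩

theorem exists_conj_mem_two (h : ¬ 2 ∣ H.index) {x y : G} (hx : orderOf x = 2) (hy : orderOf y = 2)
    (hxy : Commute x y) : ∃ g, g * x * g⁻¹ ∈ H ∧ g * y * g⁻¹ ∈ H := by
  have h1 : IsPGroup 2 (Subgroup.zpowers x ⊔ Subgroup.zpowers y : Subgroup G) := by
    refine IsPGroup.to_sup_of_normal_right' (isPGroup_zpowers (k := 1) hx) (isPGroup_zpowers (k := 1) hy) ?_
    refine le_trans ?_ (Subgroup.centralizer_le_normalizer _)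
    rw [Subgroup.zpowers_le]
    rintro _ ⟨k, rfl⟩
    exact (hxy.zpow_right k).symm
  obtain ⟨g, hg⟩ := exists_cj_le_of_not_dvd h h1
  exact ⟨g, hg (conj_mem_cj g (Subgroup.mem_sup_left (Subgroup.mem_zpowers x))),
    hg (conj_mem_cj g (Subgroup.mem_sup_right (Subgroup.mem_zpowers y)))⟩

/-- the prime divisors of `|H|` are at most `d` -/
theorem prime_le_d (hH : Half H m) {s : ℕ} (hs : s.Prime) (h : s ∣ Nat.card H) : s ≤ Nat.card H / m := by
  have := Fact.mk hs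
  obtain ⟨x, hx⟩ := exists_prime_orderOf_dvd_card' s h
  have h1 : orderOf (x : G) = s := by rw [Subgroup.orderOf_coe, hx]
  have h2 : Subgroup.zpowers (x : G) ≠ ⊥ := by
    rw [Ne, Subgroup.zpowers_eq_bot, ← orderOf_eq_one_iff, h1]
    exact hs.one_lt.ne'
  have h3 : Subgroup.zpowers (x : G) ≤ H := Subgroup.zpowers_le.2 x.2
  obtain ⟨g, h4, h5⟩ := hH.exists_not_le h2 h3
  have h6 := Subgroup.relIndex_dvd_card (cj g H) (Subgroup.zpowers (x : G))
  rw [Nat.card_zpowers, h1] at h6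
  rw [← hH.relIndex_eq h4, ← ((Nat.dvd_prime hs).1 h6).resolve_left fun h7 => h5 (Subgroup.relIndex_eq_one.1 h7)]
  exact Subgroup.relIndex_le_of_le_right h3 Subgroup.index_ne_zero_of_finite

theorem card_eq_mul (hH : Half H m) : Nat.card G = H.index * (Nat.card H / m) * m := by
  rw [mul_assoc, hH.d_mul, H.index_mul_card]

/-- in a group of even order, the degree or the subdegree is even -/
theorem two_dvd_mul (hH : Half H m) (h : 2 ∣ Nat.card G) : 2 ∣ H.index * (Nat.card H / m) := by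
  obtain ⟨x, hx⟩ := exists_prime_orderOf_dvd_card' 2 h
  obtain ⟨u, hu, hu2⟩ : ∃ u, u ∉ H ∧ u * u = 1 := by
    by_contra h1
    push Not at h1
    have h2 : Subgroup.zpowers x = ⊥ := hH.eq_bot_of_le fun g => Subgroup.zpowers_le.2 (mem_cj.2 (by
      by_contra h2
      refine h1 _ h2 ?_
      have h3 : x * x = 1 := by rw [← pow_two, ← hx, pow_orderOf_eq_one]
      calc g⁻¹ * x * g * (g⁻¹ * x * g) = g⁻¹ * (x * x) * g := by group
        _ = 1 := by rw [h3]; group))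
    rw [Subgroup.zpowers_eq_bot, ← orderOf_eq_one_iff, hx] at h2
    exact absurd h2 (by decide)
  set K := H ⊓ cj u H with hK
  have h1 : u ∈ Subgroup.normalizer (K : Set G) := by
    refine mem_normalizer_of_cj_eq ?_
    rw [hK, cj_inf, ← cj_mul, hu2, cj_one, inf_comm]
  have h2 : orderOf ((⟨u, h1⟩ : Subgroup.normalizer (K : Set G)) :
      Subgroup.normalizer (K : Set G) ⧸ K.subgroupOf (Subgroup.normalizer (K : Set G))) = 2 := by
    refine orderOf_eq_prime ?_ fun h2 => hu ((QuotientGroup.eq_one_iff _).1 h2).1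
    rw [← QuotientGroup.mk_pow, QuotientGroup.eq_one_iff, Subgroup.mem_subgroupOf]
    show u ^ 2 ∈ K
    rw [pow_two, hu2]
    exact one_mem _
  have h3 : 2 ∣ K.index := by
    rw [← h2]
    exact (orderOf_dvd_natCard _).trans (Subgroup.relIndex_dvd_index_of_le Subgroup.le_normalizer)
  have h4 := K.index_mul_card
  rw [hH.card_inf u hu, card_eq_mul hH] at h4
  rwa [Nat.eq_of_mul_eq_mul_right hH.m_pos h4] at h3

/-- in a transitive group, an element other than `1` has fewer fixed points than its centraliser has elements -/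
theorem card_fixedBy_lt {T Ω : Type*} [Group T] [Finite T] [MulAction T Ω] [Finite Ω] [Nonempty Ω]
    [IsPretransitive T Ω] {y : T} (hy : y ≠ 1) :
    Nat.card (fixedBy Ω y) < Nat.card (Subgroup.centralizer {y}) := by
  classical
  have := Fintype.ofFinite T
  have := Fintype.ofFinite Ω
  have h1 := sum_card_fixedBy_eq_card_orbits_mul_card_group T Ω
  have h2 : Fintype.card (Quotient (orbitRel T Ω)) = 1 := by
    rw [Fintype.card_eq_one_iff_nonempty_unique]
    exact (pretransitive_iff_unique_quotient_of_nonempty T Ω).1 inferInstance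
  rw [h2, one_mul] at h1
  let S : Finset T := Finset.univ.image fun t => t * y * t⁻¹
  have h3 : Fintype.card T ≤ Nat.card (Subgroup.centralizer {y}) * S.card := by
    refine Finset.card_le_mul_card_image _ _ fun b hb => ?_
    obtain ⟨t, -, rfl⟩ := Finset.mem_image.1 hb
    rw [← Fintype.card_coe, ← Nat.card_eq_fintype_card]
    refine Nat.card_le_card_of_injective (fun s => ⟨t⁻¹ * s.1, ?_⟩) fun s s' h => ?_
    · have h3 : s.1 * y * s.1⁻¹ = t * y * t⁻¹ := (Finset.mem_filter.1 s.2).2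
      rw [Subgroup.mem_centralizer_singleton_iff]
      calc t⁻¹ * s.1 * y = t⁻¹ * (s.1 * y * s.1⁻¹) * s.1 := by group
        _ = y * (t⁻¹ * s.1) := by rw [h3]; group
    · exact Subtype.ext (mul_left_cancel (congrArg Subtype.val h))
  have h4 : (1 : T) ∉ S := fun h => by
    obtain ⟨t, -, h4⟩ := Finset.mem_image.1 h
    exact hy (by simpa using h4)
  have h5 := Finset.sum_le_sum_of_subset (f := fun g : T => Fintype.card (fixedBy Ω g))
    (Finset.subset_univ (insert 1 S))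
  have h6 : ∑ g ∈ S, Fintype.card (fixedBy Ω g) = S.card * Nat.card (fixedBy Ω y) := by
    refine Finset.sum_const_nat fun b hb => ?_
    obtain ⟨t, -, rfl⟩ := Finset.mem_image.1 hb
    rw [← Nat.card_eq_fintype_card, ← smul_fixedBy, Nat.card_coe_set_eq, Nat.card_coe_set_eq, Set.ncard_smul_set]
  have h7 : 0 < Fintype.card (fixedBy Ω (1 : T)) := by
    rw [Fintype.card_pos_iff]
    exact ⟨⟨Classical.arbitrary Ω, one_smul _ _⟩⟩
  rw [Finset.sum_insert h4, h6, h1] at h5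
  refine Nat.lt_of_mul_lt_mul_left (a := S.card) ?_
  rw [mul_comm _ (Nat.card (Subgroup.centralizer {y}))]
  omega

/-- an element of `H` with a fixed point in every suborbit -/
theorem index_le_of_fix (hH : Half H m) {y : G} (hy : y ∈ H) (h : ∀ g, g ∉ H → ∃ a ∈ H, a * y * a⁻¹ ∈ cj g H) :
    H.index - 1 ≤ (Nat.card (fixedBy (G ⧸ H) y) - 1) * (Nat.card H / m) := by
  classical
  have := Fintype.ofFinite (G ⧸ H)
  let F := (fixedBy (G ⧸ H) y).toFinset.erase ((1 : G) : G ⧸ H)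
  have h1 : Finset.univ.erase ((1 : G) : G ⧸ H) ⊆ F.biUnion fun β => (orbit H β).toFinset := by
    intro β hβ
    induction β using QuotientGroup.induction_on with
    | _ g =>
    have hg : g ∉ H := fun h => (Finset.mem_erase.1 hβ).1 ((coe_eq_one_iff g).2 h)
    obtain ⟨a, ha, hag⟩ := h g hg
    refine Finset.mem_biUnion.2 ⟨((a⁻¹ * g : G) : G ⧸ H), Finset.mem_erase.2 ⟨fun h2 => ?_, ?_⟩, ?_⟩
    · exact hg ((H.mul_mem_cancel_left (inv_mem ha)).1 ((coe_eq_one_iff _).1 h2))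
    · rw [Set.mem_toFinset, mem_fixedBy, smul_coe_eq_iff, mem_cj]
      have h2 := mem_cj.1 hag
      simpa [mul_assoc] using h2
    · rw [Set.mem_toFinset]
      refine ⟨⟨a, ha⟩, ?_⟩
      show a • ((a⁻¹ * g : G) : G ⧸ H) = g
      rw [MulAction.Quotient.smul_mk, smul_eq_mul, mul_inv_cancel_left]
  have h2 := (Finset.card_le_card h1).trans (Finset.card_biUnion_le_card_mul F _ (Nat.card H / m) fun β hβ => by
    rw [← hH.card_orbit (Finset.mem_erase.1 hβ).1, Set.toFinset_card, Nat.card_eq_fintype_card])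
  rw [Finset.card_erase_of_mem (Finset.mem_univ _), Finset.card_erase_of_mem (by
    rw [Set.mem_toFinset, mem_fixedBy, smul_coe_eq_iff, cj_one]; exact hy), Set.toFinset_card, Finset.card_univ,
    ← Nat.card_eq_fintype_card, ← Nat.card_eq_fintype_card] at h2
  exact h2

/-- prime subdegree: an element acting without fixed points on a regular subgroup has a fixed point in every suborbit -/
theorem exists_fix_of_prime (hH : Half H m) {r : ℕ} (hr : r.Prime) (hd : Nat.card H / m = r) (hm : ¬ r ∣ m) {g y : G}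
    (hg : g ∈ H) (ho : orderOf g = r) (hy : y ∈ H) {j : ℕ} (hj : y * g * y⁻¹ = g ^ (j + 1)) (hr' : ¬ r ∣ j) (x : G)
    (hx : x ∉ H) : ∃ a ∈ H, a * y * a⁻¹ ∈ cj x H := by
  have h0 : (x : G ⧸ H) ≠ ((1 : G) : G ⧸ H) := fun h => hx ((coe_eq_one_iff x).1 h)
  have h1 : orbit (Subgroup.zpowers g) (x : G ⧸ H) ⊆ orbit H (x : G ⧸ H) := by
    rintro _ ⟨a, rfl⟩
    exact ⟨⟨a, Subgroup.zpowers_le.2 hg a.2⟩, rfl⟩
  have h2 : (orbit (Subgroup.zpowers g) (x : G ⧸ H)).ncard = r := by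
    have h2 := (stabilizer (Subgroup.zpowers g) (x : G ⧸ H)).index_dvd_card
    rw [Nat.card_zpowers, ho] at h2
    rw [← index_stabilizer]
    refine ((Nat.dvd_prime hr).1 h2).resolve_left fun h3 => hm ?_
    have h4 : (⟨g, Subgroup.mem_zpowers g⟩ : Subgroup.zpowers g) ∈ stabilizer (Subgroup.zpowers g) (x : G ⧸ H) := by
      rw [Subgroup.index_eq_one.1 h3]; trivial
    rw [← ho]
    exact hH.orderOf_dvd_m hx hg (mem_cj.1 ((smul_coe_eq_iff g x).1 h4))
  have h3 := Set.eq_of_subset_of_ncard_le h1 (by rw [h2, ← Nat.card_coe_set_eq, hH.card_orbit h0, hd])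
  have h4 : y • (x : G ⧸ H) ∈ orbit (Subgroup.zpowers g) (x : G ⧸ H) := by
    rw [h3]; exact ⟨⟨y, hy⟩, rfl⟩
  obtain ⟨⟨_, c, rfl⟩, hc⟩ := h4
  have hc' : g ^ c • (x : G ⧸ H) = y • (x : G ⧸ H) := hc
  obtain ⟨u, v, huv⟩ := Nat.isCoprime_iff_coprime.2 ((Nat.Prime.coprime_iff_not_dvd hr).2 hr')
  refine ⟨g ^ (c * v), zpow_mem hg _, (smul_coe_eq_iff _ _).1 ?_⟩
  have h5 : g ^ (c * v) * y * (g ^ (c * v))⁻¹ = g ^ (c * v) * (y * g * y⁻¹) ^ (-(c * v)) * y := by
    rw [conj_zpow]; group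
  rw [h5, mul_smul, ← hc', hj, ← mul_smul, ← zpow_natCast, ← zpow_mul, ← zpow_add, ← zpow_add]
  have h6 : c * v + ((j + 1 : ℕ) : ℤ) * -(c * v) + c = (r : ℤ) * (c * u) := by
    push_cast
    linear_combination (-c) * huv
  rw [h6, zpow_mul, zpow_natCast, ← ho, pow_orderOf_eq_one, one_zpow, one_smul]

theorem mem_normalizer_zpowers {g y : G} {j : ℕ} (hj : y * g * y⁻¹ = g ^ j) :
    y ∈ Subgroup.normalizer (Subgroup.zpowers g : Set G) := by
  refine mem_normalizer_of_cj_eq (Subgroup.eq_of_le_of_card_ge ?_ (card_cj _ _).ge)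
  rintro _ ⟨_, ⟨k, rfl⟩, rfl⟩
  show y * g ^ k * y⁻¹ ∈ _
  rw [← conj_zpow, hj]
  exact zpow_mem (pow_mem (Subgroup.mem_zpowers g) _) _

theorem not_dvd_m (hH : Half H m) {r : ℕ} (hd : r ∣ Nat.card H / m) (h2 : ¬ r ^ 2 ∣ Nat.card G) : ¬ r ∣ m :=
  fun h => h2 (by
    rw [pow_two, card_eq_mul hH, mul_assoc]
    exact (Nat.mul_dvd_mul hd h).trans (Dvd.intro_left _ rfl))

theorem mem_of_conj_eq_pow (hH : Half H m) {g y : G} (hg : g ∈ H) (hm : ¬ orderOf g ∣ m) {j : ℕ}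
    (hj : y * g * y⁻¹ = g ^ j) : y ∈ H :=
  hH.normalizer_le (Subgroup.zpowers_le.2 hg) (by rwa [Nat.card_zpowers]) (mem_normalizer_zpowers hj)

/-- the bound for the degree when the subdegree is a prime -/
theorem index_le_of_prime (hH : Half H m) {T : Subgroup G} [T.Normal] (hT : T ≠ ⊥) {r : ℕ} (hr : r.Prime)
    (hd : Nat.card H / m = r) (h2 : ¬ r ^ 2 ∣ Nat.card G) {g y : G} (ho : orderOf g = r) (hy : y ∈ T) {j : ℕ}
    (hj : y * g * y⁻¹ = g ^ (j + 1)) (hr' : ¬ r ∣ j) :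
    H.index - 1 ≤ (Nat.card ↥(Subgroup.centralizer {y} ⊓ T) - 2) * r ∧ orderOf y ∣ Nat.card H := by
  obtain ⟨γ, hγ⟩ := exists_conj_mem hr (hH.not_dvd_index hr (hd ▸ dvd_rfl)) ho
  have hm := not_dvd_m hH (hd ▸ dvd_rfl) h2
  have e1 := card_cj γ⁻¹ H
  have e2 := index_cj γ⁻¹ H
  have hg : g ∈ cj γ⁻¹ H := by rw [mem_cj, inv_inv]; exact hγ
  have hH' := hH.cj γ⁻¹
  rw [← e1] at hd ⊢
  rw [← e2]
  generalize cj γ⁻¹ H = L at hg hH' hd
  have hyL := mem_of_conj_eq_pow hH' hg (by rwa [ho]) hj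
  refine ⟨?_, L.orderOf_dvd_natCard hyL⟩
  have h3 := index_le_of_fix hH' hyL (exists_fix_of_prime hH' hr hd hm hg ho hyL hj hr')
  rw [hd] at h3
  refine h3.trans (Nat.mul_le_mul_right _ ?_)
  have h4 : T ⊔ L = ⊤ := hH'.max.2 _ (right_lt_sup.2 fun h => hT (hH'.eq_bot_of_normal h))
  have h5 : IsPretransitive T (G ⧸ L) := ⟨fun a b => by
    have h5 : ∀ β : G ⧸ L, ∃ t : T, t • ((1 : G) : G ⧸ L) = β := fun β => by
      induction β using QuotientGroup.induction_on with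
      | _ x =>
      have h5 : x ∈ ((T ⊔ L : Subgroup G) : Set G) := by rw [h4]; trivial
      rw [Subgroup.normal_mul] at h5
      obtain ⟨t, ht, l, hl, rfl⟩ := h5
      refine ⟨⟨t, ht⟩, ?_⟩
      show t • ((1 : G) : G ⧸ L) = _
      rw [MulAction.Quotient.smul_mk, QuotientGroup.eq]
      simpa using hl
    obtain ⟨s, rfl⟩ := h5 a
    obtain ⟨t, rfl⟩ := h5 b
    exact ⟨t * s⁻¹, by rw [mul_smul, inv_smul_smul]⟩⟩
  have h6 : (⟨y, hy⟩ : T) ≠ 1 := fun h => hr' (by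
    have h6 : y = 1 := congrArg Subtype.val h
    rw [h6, one_mul, inv_one, mul_one, pow_succ, right_eq_mul] at hj
    rw [← ho]
    exact orderOf_dvd_of_pow_eq_one hj)
  have h7 := card_fixedBy_lt (Ω := G ⧸ L) h6
  have h8 : Nat.card (Subgroup.centralizer {(⟨y, hy⟩ : T)}) ≤ Nat.card ↥(Subgroup.centralizer {y} ⊓ T) := by
    refine Nat.card_le_card_of_injective (fun s => ⟨s.1.1, ?_, s.1.2⟩) fun s s' h => ?_
    · exact Subgroup.mem_centralizer_singleton_iff.2
        (congrArg Subtype.val (Subgroup.mem_centralizer_singleton_iff.1 s.2))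
    · have h8 := congrArg Subtype.val h
      exact Subtype.ext (Subtype.ext h8)
  have h9 : Nat.card (fixedBy (G ⧸ L) (⟨y, hy⟩ : T)) = Nat.card (fixedBy (G ⧸ L) y) := rfl
  omega

end Cfsg.Agent.TH.Alt
end

-- part: TH/Boxes
section
set_option linter.all false
open scoped Cfsg.Agent.FastGrp

-- part: TH/Red
section
/-!
# S3541 from the almost simple case (helper71)
-/

set_option autoImplicit false
set_option linter.unusedSectionVars false

namespace Cfsg.Agent.TH.Red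

open MulAction

theorem concl_of_allAS (h : AllAS) {G : Type*} [Group G] [Finite G] {T H : Subgroup G} {m : ℕ} (hT : AS T)
    (hH : Half H m) : Concl H := by
  let e : G ≃* Shrink.{0} G := (@Shrink.mulEquiv.{0} G _ _).symm
  have : Finite (Shrink.{0} G) := Finite.of_equiv G e.toEquiv
  exact Concl.of_map e (h _ _ _ m (hT.map e) (hH.map e) trivial)

section

variable {G Ω : Type*} [Group G] [MulAction G Ω]

theorem stabilizer_smul (g : G) (a : Ω) : stabilizer G (g • a) = cj g (stabilizer G a) := by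
  ext x
  rw [mem_cj, mem_stabilizer_iff, mem_stabilizer_iff, mul_smul, mul_smul, inv_smul_eq_iff]

theorem card_orbit_mul (a b : Ω) :
    Nat.card (orbit (stabilizer G a) b) * Nat.card ↥(stabilizer G a ⊓ stabilizer G b) =
      Nat.card (stabilizer G a) := by
  have h1 : Nat.card (stabilizer (stabilizer G a) b) = Nat.card ↥(stabilizer G a ⊓ stabilizer G b) :=
    Nat.card_congr
      { toFun := fun x => ⟨x.1.1, x.1.2, x.2⟩
        invFun := fun x => ⟨⟨x.1, x.2.1⟩, x.2.2⟩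
        left_inv := fun _ => rfl
        right_inv := fun _ => rfl }
  rw [← h1, ← Nat.card_prod]
  exact Nat.card_congr (orbitProdStabilizerEquivGroup _ b)

end

/-- **S3541 from the almost simple case.** -/
theorem main_of (h : AllAS) {G Ω : Type*} [Group G] [Finite G] [MulAction G Ω] [FaithfulSMul G Ω] [Finite Ω]
    (htrans : MulAction.IsPretransitive G Ω) (hne : ∀ a : Ω, MulAction.stabilizer G a ≠ ⊥)
    (hhalf : ∀ a b c : Ω, b ≠ a → c ≠ a →
      Nat.card (MulAction.orbit (MulAction.stabilizer G a) b) = Nat.card (MulAction.orbit (MulAction.stabilizer G a) c)) :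
    MulAction.IsMultiplyPretransitive G Ω 2 ∨
    (∀ g : G, g ≠ 1 → Nat.card (MulAction.fixedBy Ω g) ≤ 1) ∨
    (∃ (N : Subgroup G) (p : ℕ), p.Prime ∧ N.Normal ∧ Cfsg.IsElementaryAbelian p N ∧
      MulAction.IsPretransitive N Ω ∧ ∀ a : Ω, MulAction.stabilizer N a = ⊥) ∨
    (Nat.card Ω = 21 ∧ (Nonempty (G ≃* alternatingGroup (Fin 7)) ∨ Nonempty (G ≃* Equiv.Perm (Fin 7)))) ∨
    (∃ f : ℕ, 3 ≤ f ∧ Nat.card Ω = 2 ^ (f - 1) * (2 ^ f - 1) ∧
      ∃ N : Subgroup G, N.Normal ∧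
        Nonempty (↥N ≃* Matrix.ProjectiveSpecialLinearGroup (Fin 2) (GaloisField 2 f))) := by
  by_cases h2 : MulAction.IsMultiplyPretransitive G Ω 2
  · exact Or.inl h2
  by_cases hF : ∀ g : G, g ≠ 1 → Nat.card (MulAction.fixedBy Ω g) ≤ 1
  · exact Or.inr (Or.inl hF)
  refine Or.inr (Or.inr ?_)
  push Not at hF
  obtain ⟨g₀, hg₀, hfix⟩ := hF
  obtain ⟨⟨a, ha⟩, ⟨b, hb⟩, hab⟩ := Finite.one_lt_card_iff_nontrivial.1 hfix
  have hab' : a ≠ b := fun h => hab (Subtype.ext h)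
  have hg₀' : g₀ ∈ stabilizer G a ⊓ stabilizer G b := ⟨ha, hb⟩
  have hbot : stabilizer G a ⊓ stabilizer G b ≠ ⊥ := fun h => hg₀ (by rwa [h] at hg₀')
  have hfaith : ∀ g : G, (∀ x : Ω, g • x = x) → g = 1 := fun g hg =>
    FaithfulSMul.eq_of_smul_eq_smul (α := Ω) fun x => by rw [hg, one_smul]
  obtain ⟨m, hm⟩ : ∃ m, m = Nat.card ↥(stabilizer G a ⊓ stabilizer G b) := ⟨_, rfl⟩
  have hcard1 : ∀ c, c ≠ a → Nat.card ↥(stabilizer G a ⊓ stabilizer G c) = m := fun c hc => by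
    have h1 := card_orbit_mul (G := G) a c
    rw [hhalf a c b hc hab'.symm, ← card_orbit_mul (G := G) a b, ← hm] at h1
    have : Nonempty (orbit (stabilizer G a) b) := ⟨⟨b, mem_orbit_self b⟩⟩
    exact Nat.eq_of_mul_eq_mul_left Nat.card_pos h1
  have hcard : ∀ c d : Ω, c ≠ d → Nat.card ↥(stabilizer G c ⊓ stabilizer G d) = m := fun c d hcd => by
    obtain ⟨g, rfl⟩ := exists_smul_eq G a c
    rw [← smul_inv_smul g d, stabilizer_smul, stabilizer_smul g, ← cj_inf, card_cj]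
    exact hcard1 _ fun h => hcd (by rw [← h, smul_inv_smul])
  have hprim : IsPreprimitive G Ω := by
    rcases PermutationGroups.TwoTransitiveNormal.isPreprimitive_or_of_card_inf_stabilizer_eq hcard with h1 | h1
    · exact h1
    · exact absurd (hfaith g₀ (h1 a b hab' g₀ hg₀')) hg₀
  have hnt : Nontrivial Ω := ⟨a, b, hab'⟩
  have hH : Half (stabilizer G a) m :=
    { max := (isCoatom_stabilizer_iff_preprimitive G a).2 hprim
      core := eq_bot_iff.2 fun x hx => hfaith x fun c => by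
        obtain ⟨g, rfl⟩ := exists_smul_eq G a c
        exact (stabilizer_smul g a).ge (le_normalCore_iff.1 le_rfl g hx)
      card_inf := fun g hg => by
        rw [← stabilizer_smul]
        exact hcard1 _ hg
      one_lt := by
        rw [hm]
        exact Subgroup.one_lt_card_iff_ne_bot _ |>.2 hbot
      not_two := by
        by_contra hcon
        push Not at hcon
        refine h2 (is_two_pretransitive_iff.2 fun {x y z w} hxy hzw => ?_)
        obtain ⟨u, rfl⟩ := exists_smul_eq G a x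
        obtain ⟨v, rfl⟩ := exists_smul_eq G a z
        obtain ⟨g, hg⟩ := exists_smul_eq G a (u⁻¹ • y)
        obtain ⟨g', hg'⟩ := exists_smul_eq G a (v⁻¹ • w)
        obtain ⟨k, hk, k', hk', hkk⟩ := hcon g g'
          (fun h1 => hxy (by rw [← smul_inv_smul u y, ← hg, mem_stabilizer_iff.1 h1]))
          (fun h1 => hzw (by rw [← smul_inv_smul v w, ← hg', mem_stabilizer_iff.1 h1]))
        refine ⟨v * k * u⁻¹, ?_, ?_⟩
        · rw [mul_smul, inv_smul_smul, mul_smul, mem_stabilizer_iff.1 hk]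
        · rw [mul_smul, ← hg, mul_smul, ← smul_inv_smul v w, ← hg', hkk, mul_smul, mul_smul,
            mem_stabilizer_iff.1 hk'] }
  by_cases hreg : ∀ M : Subgroup G, M.Normal → M ≠ ⊥ → stabilizer G a ⊓ M ≠ ⊥
  · right
    obtain ⟨T, hT⟩ := exists_AS hH hreg
    have h1 := concl_of_allAS h hT hH
    unfold Concl at h1
    rwa [index_stabilizer_of_transitive] at h1
  · left
    push Not at hreg
    obtain ⟨N, hN, hN1, hN2⟩ := hreg
    have hNt : IsPretransitive N Ω := ⟨fun x y => by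
      have h1 : ∀ z : Ω, ∃ n ∈ N, n • a = z := fun z => by
        obtain ⟨g, rfl⟩ := exists_smul_eq G a z
        obtain ⟨k, hk, n, hn, rfl⟩ := exists_mul_normal hH hN1 g
        refine ⟨k * n * k⁻¹, hN.conj_mem n hn k, ?_⟩
        rw [mul_smul (k * n), mem_stabilizer_iff.1 (inv_mem hk)]
      obtain ⟨n, hn, rfl⟩ := h1 x
      obtain ⟨n', hn', rfl⟩ := h1 y
      refine ⟨⟨n' * n⁻¹, mul_mem hn' (inv_mem hn)⟩, ?_⟩
      show (n' * n⁻¹) • n • a = n' • a
      rw [mul_smul, inv_smul_smul]⟩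
    have hNr : ∀ c : Ω, stabilizer N c = ⊥ := fun c => eq_bot_iff.2 fun x hx => by
      obtain ⟨g, rfl⟩ := exists_smul_eq G a c
      have h1 : (x : G) ∈ stabilizer G (g • a) ⊓ cj g N := ⟨hx, (cj_normal N g).ge x.2⟩
      rw [stabilizer_smul, ← cj_inf, hN2, cj_bot, Subgroup.mem_bot] at h1
      exact Subtype.ext h1
    obtain ⟨⟨p, hp, h3, h4⟩, -⟩ := Cfsg.Agent.S3356.result htrans hne hhalf N hNt hNr ⟨a, b, hab', hbot⟩
    exact ⟨N, p, hp, hN, ⟨h3, h4⟩, hNt, hNr⟩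

end Cfsg.Agent.TH.Red
end

-- part: TH/Rows
section
/-!
# S3541: the almost simple case from the rows (helper71)
-/

set_option autoImplicit false
set_option linter.unusedSectionVars false

namespace Cfsg.Agent.TH

/-- `T ≅ PSL₂(q)` with `q ≥ 4` -/
def IsL2 (T : Type*) [Group T] : Prop :=
  ∃ (F : Type) (_ : Field F) (_ : Fintype F), 4 ≤ Fintype.card F ∧
    Nonempty (T ≃* Matrix.ProjectiveSpecialLinearGroup (Fin 2) F)

/-- socles of Lie type other than `PSL₂(q)` and the alternating groups -/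
def RowLie : Prop :=
  NoRow fun T _ => ∃ p : ℕ, p.Prime ∧ Cfsg.IsLieTypeChar p T ∧ ¬ IsL2 T ∧ ¬ Cfsg.IsAlternating T

theorem isL2_of_alt {T : Type*} [Group T] {c : ℕ} (h5 : 5 ≤ c) (h7 : c < 7) (e : T ≃* alternatingGroup (Fin c)) :
    IsL2 T := by
  have h : c = 5 ∨ c = 6 := by omega
  rcases h with rfl | rfl
  · have := Fintype.ofFinite (GaloisField 2 2)
    have h1 : Fintype.card (GaloisField 2 2) = 4 := by
      rw [← Nat.card_eq_fintype_card, GaloisField.card 2 2 (by norm_num)]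
      norm_num
    obtain ⟨e'⟩ := Cfsg.Agent.S0252.result h1
    exact ⟨GaloisField 2 2, inferInstance, this, h1.ge, ⟨e.trans e'.symm⟩⟩
  · have := Fintype.ofFinite (GaloisField 3 2)
    have h1 : Fintype.card (GaloisField 3 2) = 9 := by
      rw [← Nat.card_eq_fintype_card, GaloisField.card 3 2 (by norm_num)]
      norm_num
    obtain ⟨e'⟩ := Cfsg.Agent.S0254.result h1
    exact ⟨GaloisField 3 2, inferInstance, this, by omega, ⟨e.trans e'.symm⟩⟩

theorem allAS_of (hcfsg : ∀ (T : Type) [Group T] [Finite T] [IsSimpleGroup T], Cfsg.IsKnownSimple' T)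
    (hA : RowAlt) (hL : RowPSL2) (hS : RowSpor) (hT : RowTits) (hLie : RowLie) : AllAS := by
  intro G _ _ T H m hAS hH _
  have := hAS.simple
  by_cases h2 : IsL2 T
  · exact hL G T H m hAS hH h2
  by_cases ha : Cfsg.IsAlternating T
  · obtain ⟨c, h5, ⟨e⟩⟩ := ha
    by_cases h7 : c < 7
    · exact absurd (isL2_of_alt h5 h7 e) h2
    · exact hA G T H m hAS hH ⟨c, by omega, ⟨e⟩⟩
  have hc : ¬ Cfsg.IsPrimeCyclic T := fun h => by
    have : Fact (Nat.card T).Prime := ⟨h⟩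
    have := isCyclic_of_prime_card (α := T) rfl
    exact hAS.nonab inferInstance
  rcases H912.Known.known_split (hcfsg T) hc with h | ⟨p, hp, h⟩ | h | h
  · exact absurd h ha
  · exact (hLie G T H m hAS hH ⟨p, hp, h, h2, ha⟩).elim
  · exact (hT G T H m hAS hH h).elim
  · exact (hS G T H m hAS hH h).elim

end Cfsg.Agent.TH
end

-- part: TH/Boxes
section
/-!
# S3541: the boxes for the socles of Lie type (captain helper73)

`LieCtx T H m p` is the standing hypothesis.  `HasOwn p H`: `H` has a component of Lie type in characteristic `p`.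
* `BoxOwn` : uniform argument when `H` has such a component;
* `NonOwn P` : no such component, socle in the family `P` (one box for each family).
All boxes may use the classification `AllK`.
-/

set_option autoImplicit false

namespace Cfsg.Agent.TH

/-- the classification, as a hypothesis -/
def AllK : Prop := ∀ (X : Type) [Group X] [Finite X] [IsSimpleGroup X], Cfsg.IsKnownSimple' X

/-- the standing hypothesis for a socle of Lie type -/
structure LieCtx {G : Type*} [Group G] (T H : Subgroup G) (m p : ℕ) : Prop where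
  as : AS T
  half : Half H m
  prime : p.Prime
  lie : Cfsg.IsLieTypeChar p ↥T
  notL2 : ¬ IsL2 ↥T
  notAlt : ¬ Cfsg.IsAlternating ↥T

/-- `H` has a component of Lie type in characteristic `p` -/
def HasOwn (p : ℕ) {G : Type*} [Group G] (H : Subgroup G) : Prop :=
  ∃ E : Subgroup ↥H, Cfsg.IsComponent E ∧ Cfsg.IsLieTypeChar p (↥E ⧸ Subgroup.center ↥E)

/-- [OWN] the point stabiliser has a component of Lie type in the characteristic of the socle -/
def BoxOwn : Prop := AllK →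
  ∀ (G : Type) [Group G] [Finite G] (T H : Subgroup G) (m p : ℕ), LieCtx T H m p → HasOwn p H → False

/-- no component of Lie type in the characteristic of the socle, socle in the family `P` -/
def NonOwn (P : ℕ → ∀ (T : Type) [Group T], Prop) : Prop := AllK →
  ∀ (G : Type) [Group G] [Finite G] (T H : Subgroup G) (m p : ℕ), LieCtx T H m p → ¬ HasOwn p H → P p ↥T → False

def BoxL : Prop := NonOwn fun p T _ => Cfsg.IsPSLChar p T
def BoxSp : Prop := NonOwn fun p T _ => Cfsg.IsPSpChar p T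
def BoxU : Prop := NonOwn fun p T _ => Cfsg.IsPSUChar p T
def BoxO : Prop := NonOwn fun p T _ => Cfsg.IsPOmegaOddChar p T
def BoxOp : Prop := NonOwn fun p T _ => Cfsg.IsPOmegaPlusChar p T
def BoxOm : Prop := NonOwn fun p T _ => Cfsg.IsPOmegaMinusChar p T

/-- a Chevalley group of the datum `D` over a finite field of characteristic `p` with at least `k` elements -/
def ChevChar (D : Cfsg.Lie.ChevalleyDatum) (k p : ℕ) (T : Type*) [Group T] : Prop :=
  ∃ (F : Type) (_ : Field F) (_ : Fintype F) (_ : CharP F p), k ≤ Fintype.card F ∧ Nonempty (T ≃* D.group F)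

def BoxG2 : Prop := NonOwn fun p T _ => ChevChar Cfsg.Lie.chevG2 3 p T
def BoxF4 : Prop := NonOwn fun p T _ => ChevChar Cfsg.Lie.chevF4 0 p T
def BoxE6 : Prop := NonOwn fun p T _ => ChevChar Cfsg.Lie.chevE6 0 p T
def BoxE7 : Prop := NonOwn fun p T _ => ChevChar Cfsg.Lie.chevE7 0 p T
def BoxE8 : Prop := NonOwn fun p T _ => ChevChar Cfsg.Lie.chevE8 0 p T
def Box2E6 : Prop := NonOwn fun p T _ =>
  ∃ (K : Type) (_ : Field K) (_ : Fintype K) (_ : CharP K p) (q : ℕ), IsPrimePow q ∧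
    Fintype.card K = q ^ 2 ∧ Nonempty (T ≃* Cfsg.Lie.twistedE6 K q)
def Box3D4 : Prop := NonOwn fun p T _ =>
  ∃ (K : Type) (_ : Field K) (_ : Fintype K) (_ : CharP K p) (q : ℕ), IsPrimePow q ∧
    Fintype.card K = q ^ 3 ∧ Nonempty (T ≃* Cfsg.Lie.twistedD4 K q)
def BoxSz : Prop := NonOwn fun p T _ => p = 2 ∧ Cfsg.Lie.IsoSuzuki T
def Box2F4 : Prop := NonOwn fun p T _ => p = 2 ∧ Cfsg.Lie.Iso2F4 T
def BoxRee : Prop := NonOwn fun p T _ => p = 3 ∧ Cfsg.Lie.IsoRee T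

/-- the classical boxes -/
structure BoxesCl : Prop where
  l : BoxL
  sp : BoxSp
  u : BoxU
  o : BoxO
  op : BoxOp
  om : BoxOm

/-- the exceptional boxes -/
structure BoxesEx : Prop where
  g2 : BoxG2
  f4 : BoxF4
  e6 : BoxE6
  e7 : BoxE7
  e8 : BoxE8
  te6 : Box2E6
  td4 : Box3D4
  sz : BoxSz
  tf4 : Box2F4
  ree : BoxRee

/-- **the assembly of the row of Lie type** -/
theorem rowLie_of (hK : AllK) (hO : BoxOwn) (hC : BoxesCl) (hE : BoxesEx) : RowLie := by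
  rintro G _ _ T H m hT hH ⟨p, hp, hl, h2, ha⟩
  have c : LieCtx T H m p := ⟨hT, hH, hp, hl, h2, ha⟩
  by_cases ho : HasOwn p H
  · exact hO hK G T H m p c ho
  rcases hl with h | h | h | h | h | h | h | h | h | h | h
  · exact hC.l hK G T H m p c ho h
  · exact hC.sp hK G T H m p c ho h
  · exact hC.u hK G T H m p c ho h
  · exact hC.o hK G T H m p c ho h
  · exact hC.op hK G T H m p c ho h
  · exact hC.om hK G T H m p c ho h
  · obtain ⟨F, i1, i2, i3, h | h | h | h | h⟩ := h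
    · exact hE.g2 hK G T H m p c ho ⟨F, i1, i2, i3, h.1, h.2⟩
    · exact hE.f4 hK G T H m p c ho ⟨F, i1, i2, i3, Nat.zero_le _, h⟩
    · exact hE.e6 hK G T H m p c ho ⟨F, i1, i2, i3, Nat.zero_le _, h⟩
    · exact hE.e7 hK G T H m p c ho ⟨F, i1, i2, i3, Nat.zero_le _, h⟩
    · exact hE.e8 hK G T H m p c ho ⟨F, i1, i2, i3, Nat.zero_le _, h⟩
  · obtain ⟨K, i1, i2, i3, q, hq, h | h⟩ := h
    · exact hE.te6 hK G T H m p c ho ⟨K, i1, i2, i3, q, hq, h.1, h.2⟩
    · exact hE.td4 hK G T H m p c ho ⟨K, i1, i2, i3, q, hq, h.1, h.2⟩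
  · exact hE.sz hK G T H m p c ho h
  · exact hE.tf4 hK G T H m p c ho h
  · exact hE.ree hK G T H m p c ho h

end Cfsg.Agent.TH
end
end

-- part: TH/Own/Defs
section
set_option linter.all false
open scoped Cfsg.Agent.FastGrp

/-!
# S3541, `BoxOwn`: the interface (helper74).  Paper proof: `notes/TH/own74.md`, `notes/TH/own74b.md`.

* `Amb Ω T p m` : all that is used about the action of `G` on `Ω` and about the socle `T`;
* `PS G p I` : a Sylow `p`-subgroup `X` of `D univ` with the groups `D J` generated by the conjugates of `X` in the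
  parabolic subgroups, `I` the set of nodes;
* `US` : the system of the product `E` of an orbit of components (`X = U`, `D univ = E`), `Comps` : its components;
* `FS` : the folded system (`X = O_p(N_{T_a}(U))`, `D univ = E X`, nodes = orbits of `X`), `Fold` : the relation;
* `R1D` : the data for `E` of rank one;
* the boxes `BoxAmb`, `BoxBld`, `BoxR1D`, `BoxFold`, `BoxOne`, `BoxTwo`, `BoxRk1` and `boxOwn_of`.
-/

set_option autoImplicit false

namespace Cfsg.Agent.TH.Own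

open MulAction

section Amb

variable {G : Type*} [Group G]

/-- the action of `G` on `Ω`, the socle `T` -/
structure Amb (Ω : Type*) [MulAction G Ω] (T : Subgroup G) (p m : ℕ) : Prop where
  prime : p.Prime
  nrm : T.Normal
  trans : ∀ a b : Ω, ∃ t ∈ T, t • a = b
  card2 : ∀ a b : Ω, a ≠ b → Nat.card ↥(stabilizer G a ⊓ stabilizer G b) = m
  not2 : ∀ a : Ω, ∃ b c : Ω, b ≠ a ∧ c ≠ a ∧ ∀ h : G, h • a = a → h • b ≠ c
  max : ∀ a : Ω, IsCoatom (stabilizer G a)
  faith : ∀ g : G, (∀ a : Ω, g • a = a) → g = 1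
  /-- `T_{ab}` contains a Sylow `p`-subgroup of `T_a` -/
  syl : ∀ (a b : Ω) (P : Subgroup G), IsPGroup p P → P ≤ T → P ≤ stabilizer G a →
    ∃ t ∈ T, t • a = a ∧ cj t P ≤ stabilizer G b
  /-- canonical Borel–Tits -/
  gt : ∀ (a : Ω) (D : Subgroup G), D ≠ ⊥ → IsPGroup p D → D ≤ T → D ≤ stabilizer G a →
    ∃ Q : Subgroup G, IsPGroup p Q ∧ Q ≤ T ∧ D ≤ Q ∧ (∀ g : G, cj g D = D → cj g Q = Q) ∧ ¬ Q ≤ stabilizer G a
  nsq : ∀ k : ℕ, Nat.card Ω ≠ p ^ (2 * k)

/-- the conjugates of `X` under `L` -/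
def Cjs (L X : Subgroup G) : Set (Subgroup G) := {P | ∃ e ∈ L, P = cj e X}

/-- their number -/
noncomputable def nS (L X : Subgroup G) : ℕ := (Cjs L X).ncard

/-- their intersection -/
def rad (L X : Subgroup G) : Subgroup G := sInf (Cjs L X)

/-- `X` is transitive on its other conjugates -/
def Spl (L X : Subgroup G) : Prop :=
  ∀ P ∈ Cjs L X, P ≠ X → ∀ P' ∈ Cjs L X, P' ≠ X → ∃ x ∈ X, cj x P = P'

/-- adjacent nodes -/
def AdjD {I : Type*} (D : Set I → Subgroup G) (X : Subgroup G) (i j : I) : Prop :=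
  i ≠ j ∧ nS (D {i, j}) X ≠ nS (D {i}) X * nS (D {j}) X

end Amb

/-- a Sylow subgroup `X` of `D univ` and the groups `D J = ⟨X ^ P_J⟩` -/
structure PS (G : Type*) [Group G] (p : ℕ) (I : Type*) where
  X : Subgroup G
  D : Set I → Subgroup G
  isP : IsPGroup p X
  D_empty : D ∅ = X
  mono : ∀ {J L : Set I}, J ⊆ L → D J ≤ D L
  le_iff : ∀ {J L : Set I}, D J ≤ D L → J ⊆ L
  syl : ∀ P : Subgroup G, P ≤ D Set.univ → IsPGroup p P → ∃ R ∈ Cjs (D Set.univ) X, P ≤ R
  ov : ∀ K : Subgroup G, X ≤ K → K ≤ D Set.univ → ∃ J, D J ≤ K ∧ ∀ k ∈ K, cj k X ∈ Cjs (D J) X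
  gen : ∀ (J : Set I) (K : Subgroup G), (∀ P ∈ Cjs (D J) X, P ≤ K) → D J ≤ K
  nrm : ∀ n ∈ D Set.univ, cj n X = X → ∀ J, cj n (D J) = D J
  vx : ∀ J, ∀ P ∈ Cjs (D Set.univ) X, rad (D J) X ≤ P → P ∈ Cjs (D J) X
  rk2 : ∀ j k, j ≠ k → Spl (D {j}) X → Spl (D {k}) X → ∃ e : ℕ,
    nS (D {j, k}) X = nS (D {j}) X * nS (D {k}) X + (nS (D {j}) X - 1) * (nS (D {k}) X - 1) * e ∧ (e = 0 ∨ ¬ p ∣ e)
  endn : ∃ i, ∀ j k, AdjD D X i j → AdjD D X i k → j = k

/-- `D univ` is a normal subgroup of the stabiliser of `a`, inside `T` -/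
structure PS.At {G : Type*} [Group G] {p : ℕ} {I : Type*} (S : PS G p I) {Ω : Type*} [MulAction G Ω]
    (T : Subgroup G) (a : Ω) : Prop where
  leT : S.D Set.univ ≤ T
  fix : S.D Set.univ ≤ stabilizer G a
  nrmH : ∀ h : G, h • a = a → cj h (S.D Set.univ) = S.D Set.univ

/-- the system of a product of components: all nodes split, projections on panels, rigidity -/
structure US (G : Type*) [Group G] (p : ℕ) (I : Type*) extends PS G p I where
  split : ∀ i, Spl (D {i}) X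
  pan : ∀ i, ∀ P ∈ Cjs (D {i}) X, P ≠ X → X ⊓ P ≤ rad (D {i}) X
  proj : ∀ J, ∀ P ∈ Cjs (D J) X, P ≠ X → ∃ i ∈ J, ∃ R ∈ Cjs (D {i}) X, R ≠ X ∧
    ∀ R' ∈ Cjs (D {i}) X, R' ≠ R → Nat.card ↥(R' ⊓ P) < Nat.card ↥(R ⊓ P)
  opp : ∃ P₀ ∈ Cjs (D Set.univ) X, X ⊓ P₀ = ⊥ ∧
    (∀ P ∈ Cjs (D Set.univ) X, X ⊓ P = ⊥ → ∃ u ∈ X, cj u P = P₀) ∧
    (∀ i, ∃ R ∈ Cjs (D {i}) X, R ⊓ P₀ ≠ ⊥ ∧ ∀ R' ∈ Cjs (D {i}) X, R' ≠ R → R' ⊓ P₀ = ⊥) ∧
    ∀ h : G, cj h (D Set.univ) = D Set.univ → cj h P₀ = P₀ → (∀ i, ∀ R ∈ Cjs (D {i}) X, cj h R = R) →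
      ∀ P ∈ Cjs (D Set.univ) X, cj h P = P

/-- the components of `D univ` -/
structure Comps {G : Type*} [Group G] {p : ℕ} {I : Type*} (S : US G p I) (ι : Type*) where
  c : I → ι
  E : ι → Subgroup G
  surj : Function.Surjective c
  quasi : ∀ l, Cfsg.IsQuasisimple ↥(E l)
  comm : ∀ l l', l ≠ l' → ∀ x ∈ E l, ∀ y ∈ E l', x * y = y * x
  top : S.D Set.univ = ⨆ l, E l
  D_eq : ∀ A : Set ι, S.D (c ⁻¹' A) = S.X ⊔ ⨆ l ∈ A, E l
  X_eq : S.X = ⨆ l, S.X ⊓ E l
  X_ne : ∀ l, S.X ⊓ E l ≠ ⊥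
  perm : ∀ h : G, cj h (S.D Set.univ) = S.D Set.univ → ∀ l, ∃ l', cj h (E l) = E l'

/-- the folded system: labels and the nodes which are not split -/
structure FS (G : Type*) [Group G] (p : ℕ) (I : Type*) extends PS G p I where
  Y : I → Subgroup G
  Y_le : ∀ i, Y i ≤ X
  Y_nrm : ∀ i, ∀ x ∈ X, cj x (Y i) = Y i
  y1 : ∀ i, ∃ P ∈ Cjs (D {i}) X, P ≠ X ∧ Y i ≤ P
  y2 : ∀ (J : Set I) (Z : Subgroup G), Z ≤ X → (∀ x ∈ X, cj x Z = Z) → ∀ P ∈ Cjs (D J) X, P ≠ X → Z ≤ P →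
    ∃ i ∈ J, Z ≤ Y i
  y3 : ∀ i k, Y i ≤ Y k → i = k
  multi : ∀ i, ¬ Spl (D {i}) X → ∃ (K : Subgroup G) (a : ℕ), rad (D {i}) X ≤ K ∧ K ≤ X ∧
    p ^ a ∣ nS (D {i}) X - 1 ∧ ¬ p ^ a ∣ {P ∈ Cjs (D {i}) X | K ≤ P}.ncard - 1
  iso5 : ∀ i, Spl (D {i}) X → (∀ k, ¬ AdjD D X i k) → 5 ≤ nS (D {i}) X

/-- `X = O_p(N_{T_a}(X))`, and rigidity when all panels have three chambers -/
structure FS.At {G : Type*} [Group G] {p : ℕ} {I : Type*} (F : FS G p I) {Ω : Type*} [MulAction G Ω]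
    (T : Subgroup G) (a : Ω) : Prop extends F.toPS.At T a where
  maxX : ∀ P : Subgroup G, IsPGroup p P → P ≤ T → P ≤ stabilizer G a → (∀ g ∈ P, cj g F.X = F.X) →
    (∀ g ∈ T, g • a = a → cj g F.X = F.X → cj g P = P) → P ≤ F.X
  rig2 : (∀ i, Spl (F.D {i}) F.X ∧ nS (F.D {i}) F.X = 3) → ∀ g : G, g • a = a → cj g F.X = F.X →
    (∀ i, cj g (F.D {i}) = F.D {i}) → ∃ x ∈ F.X, ∀ P ∈ Cjs (F.D Set.univ) F.X, cj (x * g) P = P

/-- `F` is the folded system of `S` -/
structure Fold {G : Type*} [Group G] {p : ℕ} {I I' : Type*} (S : US G p I) (F : FS G p I') (κ : I → I')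
    {Ω : Type*} [MulAction G Ω] (a : Ω) : Prop where
  surj : Function.Surjective κ
  D_eq : ∀ J, F.D J = S.D (κ ⁻¹' J) ⊔ F.X
  inf : F.X ⊓ S.D Set.univ = S.X
  nX : ∀ g : G, g • a = a → cj g S.X = S.X → cj g F.X = F.X
  fib : ∀ i k, κ i = κ k → ∃ x ∈ F.X, cj x (S.D {i}) = S.D {k}

section

variable {G : Type*} [Group G]

/-- the subgroup generated by the `p`-elements of `N_{T_a}(X)` -/
def Np (p : ℕ) {Ω : Type*} [MulAction G Ω] (T : Subgroup G) (a : Ω) (X : Subgroup G) : Subgroup G :=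
  Subgroup.closure {g | g ∈ T ∧ g • a = a ∧ cj g X = X ∧ ∃ n : ℕ, g ^ p ^ n = 1}

/-- `Np` is transitive on the nodes -/
def PTrans {p : ℕ} {I : Type*} (S : PS G p I) {Ω : Type*} [MulAction G Ω] (T : Subgroup G) (a : Ω) : Prop :=
  ∀ i k, ∃ g ∈ Np p T a S.X, cj g (S.D {i}) = S.D {k}

/-- the centre of `E` -/
def Zc (E : Subgroup G) : Subgroup G := E ⊓ Subgroup.centralizer (E : Set G)

/-- the stabiliser in `E` of two Sylow subgroups -/
def T0 (E U U' : Subgroup G) : Subgroup G := E ⊓ Subgroup.normalizer (U : Set G) ⊓ Subgroup.normalizer (U' : Set G)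

/-- `L₂(q)` -/
def CaseL (E U U' T1 : Subgroup G) : Prop :=
  T1 = Zc E ∧ Nat.card (Zc E) ≤ 2 ∧ Nat.card U ≤ 2 * (Zc E).relIndex (T0 E U U') + 1

/-- `Sz(q)` -/
def CaseS (p : ℕ) (E U U' T1 : Subgroup G) : Prop :=
  p = 2 ∧ T1 = ⊥ ∧ ∃ q : ℕ, Nat.card U = q ^ 2 ∧ Nat.card (T0 E U U') + 1 = q

/-- `U₃(q)`, `q` odd, and `Ree(q)` -/
def CaseO (p : ℕ) (E U U' T1 : Subgroup G) : Prop :=
  p ≠ 2 ∧ ∃ q : ℕ, Nat.card U = q ^ 3 ∧ q - 1 ∣ 2 * T1.relIndex (T0 E U U') ∧
    Nat.Coprime (Nat.card (Zc E)) (2 * T1.relIndex (T0 E U U')) ∧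
    ∃ t ∈ T1, t ∉ Zc E ∧ t * t = 1 ∧ Nat.card ↥(U ⊓ Subgroup.centralizer {t}) = q

/-- `U₃(q)`, `q` even -/
def CaseE (p : ℕ) (E U U' T1 : Subgroup G) : Prop :=
  p = 2 ∧ ∃ q : ℕ, 4 ≤ q ∧ Nat.card U = q ^ 3 ∧ T1.relIndex (T0 E U U') + 1 = q ∧
    Nat.Coprime (Nat.card (Zc E)) (T1.relIndex (T0 E U U')) ∧ q ^ 2 - 1 ∣ 3 * (Zc E).relIndex (T0 E U U') ∧
    (∀ t ∈ T1, t ∉ Zc E → Nat.card ↥(U ⊓ Subgroup.centralizer {t}) = q) ∧
    ∀ W : Subgroup G, (∀ w ∈ W, cj w E = E) → (∀ w ∈ W, w * w = 1) → W ⊓ Subgroup.centralizer (E : Set G) = ⊥ →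
      Nat.card W ≤ 2 * q

/-- the data for `E` of rank one: the torus is cyclic modulo the centre, its elements outside `T1` are regular -/
def R1D (p : ℕ) (E U : Subgroup G) : Prop :=
  ∃ U' T1 : Subgroup G, U' ∈ Cjs E U ∧ U' ≠ U ∧
    (∃ t₀ ∈ T0 E U U', ∀ t ∈ T0 E U U', ∃ (k : ℕ) (z : G), z ∈ Zc E ∧ t = t₀ ^ k * z) ∧
    Zc E ≤ T1 ∧ T1 ≤ T0 E U U' ∧ T1 ≠ T0 E U U' ∧
    (∀ t ∈ T0 E U U', t ∉ T1 → ∀ u ∈ U, u * t = t * u → u = 1) ∧
    (CaseL E U U' T1 ∨ CaseS p E U U' T1 ∨ CaseO p E U U' T1 ∨ CaseE p E U U' T1)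

end

/-! ### The boxes -/

/-- [AMB] Borel–Tits in `T`, `p ∣ n`, the degree is not an even power of `p` -/
def BoxAmb : Prop :=
  ∀ (G : Type) [Group G] [Finite G] (T H : Subgroup G) (m p : ℕ), LieCtx T H m p → Amb (G ⧸ H) T p m

/-- [BLD] the system of an orbit of components -/
def BoxBld : Prop :=
  ∀ (G : Type) [Group G] [Finite G] (T H : Subgroup G) (m p : ℕ), LieCtx T H m p → HasOwn p H →
    ∃ (I ι : Type) (_ : Finite I) (_ : Finite ι) (S : US G p I) (C : Comps S ι), S.toPS.At T ((1 : G) : G ⧸ H) ∧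
      ∀ l, Cfsg.IsLieTypeChar p (↥(C.E l) ⧸ Subgroup.center ↥(C.E l)) ∧ ¬ p ∣ Nat.card (Zc (C.E l))

/-- [R1D] the data of the four families of rank one -/
def BoxR1D : Prop :=
  ∀ (G : Type) [Group G] [Finite G] (p : ℕ) (E U : Subgroup G), p.Prime → Cfsg.IsQuasisimple ↥E →
    Cfsg.IsLieTypeChar p (↥E ⧸ Subgroup.center ↥E) → ¬ p ∣ Nat.card (Zc E) → U ≤ E → IsPGroup p U →
    (∀ P : Subgroup G, P ≤ E → IsPGroup p P → ∃ R ∈ Cjs E U, P ≤ R) → Spl E U → R1D p E U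

/-- [FOLD] folding -/
def BoxFold : Prop :=
  ∀ (G : Type) [Group G] [Finite G] (Ω : Type) [MulAction G Ω] (T : Subgroup G) (p : ℕ) (a : Ω) (I ι : Type) [Finite I]
    [Finite ι] (S : US G p I) (_ : Comps S ι), p.Prime → T.Normal → S.toPS.At T a →
    ∃ (I' : Type) (_ : Finite I') (F : FS G p I') (κ : I → I'), F.At T a ∧ Fold S F κ a

/-- [ONE] `Np` is not transitive on the folded nodes -/
def BoxOne : Prop :=
  ∀ (G : Type) [Group G] [Finite G] (Ω : Type) [MulAction G Ω] (T : Subgroup G) (p m : ℕ) (a : Ω) (I : Type) [Finite I]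
    (F : FS G p I), Amb Ω T p m → F.At T a → PTrans F.toPS T a

/-- [TWO] `Np` is transitive on the folded nodes, at least two nodes -/
def BoxTwo : Prop :=
  ∀ (G : Type) [Group G] [Finite G] (Ω : Type) [MulAction G Ω] (T : Subgroup G) (p m : ℕ) (a : Ω) (I ι I' : Type)
    [Finite I] [Finite ι] [Finite I'] (S : US G p I) (_ : Comps S ι) (F : FS G p I') (κ : I → I'),
    Amb Ω T p m → S.toPS.At T a → F.At T a → Fold S F κ a → PTrans F.toPS T a → Subsingleton I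

/-- [RK1] one node -/
def BoxRk1 : Prop :=
  ∀ (G : Type) [Group G] [Finite G] (Ω : Type) [MulAction G Ω] (T : Subgroup G) (p m : ℕ) (a : Ω) (I I' : Type)
    [Unique I] [Finite I'] (S : US G p I) (F : FS G p I') (κ : I → I'),
    Amb Ω T p m → S.toPS.At T a → F.At T a → Fold S F κ a → Cfsg.IsQuasisimple ↥(S.D Set.univ) →
    R1D p (S.D Set.univ) S.X → False

/-- **the assembly** -/
theorem boxOwn_of (h1 : BoxAmb) (h2 : BoxBld) (h3 : BoxR1D) (h4 : BoxFold) (h5 : BoxOne) (h6 : BoxTwo)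
    (h7 : BoxRk1) : BoxOwn := by
  intro _ G _ _ T H m p c ho
  have hA := h1 G T H m p c
  obtain ⟨I, ι, _, _, S, C, hS, hE⟩ := h2 G T H m p c ho
  obtain ⟨I', _, F, κ, hF, hκ⟩ := h4 G (G ⧸ H) T p _ I ι S C c.prime hA.nrm hS
  have hI := h6 G (G ⧸ H) T p m _ I ι I' S C F κ hA hS hF hκ (h5 G (G ⧸ H) T p m _ I' F hA hF)
  obtain ⟨i, -⟩ := S.endn
  let _ : Unique I := uniqueOfSubsingleton i
  have hι : ∀ l, l = C.c i := fun l => by
    obtain ⟨k, rfl⟩ := C.surj l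
    rw [Subsingleton.elim k i]
  have h8 : S.D Set.univ = C.E (C.c i) := by
    rw [C.top]
    exact le_antisymm (iSup_le fun l => by rw [hι l]) (le_iSup C.E _)
  have h9 : ({i} : Set I) = Set.univ := Set.eq_univ_of_forall fun k => Subsingleton.elim k i
  refine h7 G (G ⧸ H) T p m _ I I' S F κ hA hS hF hκ (h8 ▸ C.quasi _) ?_
  have h10 := h3 G p (C.E (C.c i)) S.X c.prime (C.quasi _) (hE _).1 (hE _).2
    (by rw [← h8, ← S.D_empty]; exact S.mono (Set.empty_subset _)) S.isP (by rw [← h8]; exact S.syl)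
    (by rw [← h8, ← h9]; exact S.split i)
  rwa [h8]

end Cfsg.Agent.TH.Own
end

-- part: TH/Own/Grp
section
set_option linter.all false
open scoped Cfsg.Agent.FastGrp

/-!
# S3541, `BoxOwn`: general lemmas on conjugation, `p`-subgroups and orbits (helper74)
-/

set_option autoImplicit false
set_option linter.unusedSectionVars false
set_option linter.unusedVariables false

namespace Cfsg.Agent.TH.Own

open MulAction

section Cj

variable {G : Type*} [Group G]

theorem cj_inj (g : G) {A B : Subgroup G} (h : cj g A = cj g B) : A = B := by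
  rw [← cj_inv_cj g A, h, cj_inv_cj]

theorem cj_sup (g : G) (A B : Subgroup G) : cj g (A ⊔ B) = cj g A ⊔ cj g B := Subgroup.map_sup _ _ _

theorem cj_iSup {ι : Sort*} (g : G) (A : ι → Subgroup G) : cj g (⨆ i, A i) = ⨆ i, cj g (A i) :=
  Subgroup.map_iSup _ _

theorem cj_bot (g : G) : cj g (⊥ : Subgroup G) = ⊥ := Subgroup.map_bot _

theorem cj_eq_bot {g : G} {A : Subgroup G} : cj g A = ⊥ ↔ A = ⊥ :=
  ⟨fun h => cj_inj g (h.trans (cj_bot g).symm), fun h => by rw [h, cj_bot]⟩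

theorem cj_normal (g : G) (T : Subgroup G) [h : T.Normal] : cj g T = T := by
  ext x
  rw [mem_cj]
  exact ⟨fun hx => by simpa [mul_assoc] using h.conj_mem _ hx g, fun hx => by simpa using h.conj_mem _ hx g⁻¹⟩

theorem conj_mem_cj_iff {H : Subgroup G} {x g : G} : g * x * g⁻¹ ∈ cj g H ↔ x ∈ H := by
  rw [mem_cj]; simp [mul_assoc]

theorem nm_iff {g : G} {K : Subgroup G} : g ∈ Subgroup.normalizer (K : Set G) ↔ cj g K = K :=
  ⟨cj_eq_of_mem_normalizer, mem_normalizer_of_cj_eq⟩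

theorem nm_mul {g g' : G} {K : Subgroup G} (h : cj g K = K) (h' : cj g' K = K) : cj (g * g') K = K := by
  rw [cj_mul, h', h]

theorem nm_inv {g : G} {K : Subgroup G} (h : cj g K = K) : cj g⁻¹ K = K := by
  conv_lhs => rw [← h]
  exact cj_inv_cj g K

theorem nm_conj {g x : G} {K : Subgroup G} (h : cj g K = K) (hx : x ∈ K) : g * x * g⁻¹ ∈ K :=
  h ▸ conj_mem_cj g hx

theorem nm_conj' {g x : G} {K : Subgroup G} (h : cj g K = K) (hx : x ∈ K) : g⁻¹ * x * g ∈ K :=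
  mem_cj.1 (h.symm ▸ hx)

theorem nm_cj {g x : G} {K : Subgroup G} (h : cj x K = K) : cj (g * x * g⁻¹) (cj g K) = cj g K := by
  rw [← cj_mul, inv_mul_cancel_right, cj_mul, h]

theorem nm_cj_iff {g x : G} {K : Subgroup G} : cj x (cj g K) = cj g K ↔ cj (g⁻¹ * x * g) K = K := by
  constructor
  · intro h
    rw [cj_mul, cj_mul, h, cj_inv_cj]
  · intro h
    have h1 := nm_cj (g := g) h
    rwa [show g * (g⁻¹ * x * g) * g⁻¹ = x by group] at h1

theorem nm_of_comm {g : G} {K : Subgroup G} (h : ∀ x ∈ K, g * x = x * g) : cj g K = K := by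
  ext x
  rw [mem_cj]
  constructor
  · intro hx
    have h1 := h _ hx
    have h2 : x = g⁻¹ * x * g := by
      have h3 : g * (g⁻¹ * x * g) = x * g := by group
      rw [h3] at h1
      exact mul_right_cancel h1
    rwa [h2]
  · intro hx
    rw [mul_assoc, ← h x hx, inv_mul_cancel_left]
    exact hx

theorem nm_of_le [Finite G] {g : G} {K : Subgroup G} (h : cj g K ≤ K) : cj g K = K :=
  Subgroup.eq_of_le_of_card_ge h (card_cj g K).ge

theorem nm_of_conj [Finite G] {g : G} {K : Subgroup G} (h : ∀ x ∈ K, g * x * g⁻¹ ∈ K) : cj g K = K :=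
  nm_of_le (by rintro _ ⟨x, hx, rfl⟩; exact h x hx)

theorem nm_inf {g : G} {K L : Subgroup G} (h : cj g K = K) (h' : cj g L = L) : cj g (K ⊓ L) = K ⊓ L := by
  rw [cj_inf, h, h']

theorem nm_sup {g : G} {K L : Subgroup G} (h : cj g K = K) (h' : cj g L = L) : cj g (K ⊔ L) = K ⊔ L := by
  rw [cj_sup, h, h']

theorem cj_normalizer (g : G) (K : Subgroup G) :
    cj g (Subgroup.normalizer (K : Set G)) = Subgroup.normalizer ((cj g K : Subgroup G) : Set G) := by
  ext x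
  rw [mem_cj, nm_iff, nm_iff, nm_cj_iff]

theorem cj_centralizer (g : G) (K : Subgroup G) :
    cj g (Subgroup.centralizer (K : Set G)) = Subgroup.centralizer ((cj g K : Subgroup G) : Set G) := by
  ext x
  rw [mem_cj, Subgroup.mem_centralizer_iff, Subgroup.mem_centralizer_iff]
  constructor
  · rintro h _ ⟨y, hy, rfl⟩
    have h1 := h y hy
    show g * y * g⁻¹ * x = x * (g * y * g⁻¹)
    calc g * y * g⁻¹ * x = g * (y * (g⁻¹ * x * g)) * g⁻¹ := by group
      _ = g * ((g⁻¹ * x * g) * y) * g⁻¹ := by rw [h1]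
      _ = _ := by group
  · intro h y hy
    have h1 : g * y * g⁻¹ * x = x * (g * y * g⁻¹) := h _ (conj_mem_cj g hy)
    calc y * (g⁻¹ * x * g) = g⁻¹ * (g * y * g⁻¹ * x) * g := by group
      _ = g⁻¹ * (x * (g * y * g⁻¹)) * g := by rw [h1]
      _ = _ := by group

theorem cj_closure (g : G) (A : Set G) :
    cj g (Subgroup.closure A) = Subgroup.closure ((fun x => g * x * g⁻¹) '' A) :=
  MonoidHom.map_closure _ _

theorem nm_of_sup {A B K : Subgroup G} (hA : ∀ x ∈ A, cj x K = K) (hB : ∀ x ∈ B, cj x K = K) :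
    ∀ x ∈ A ⊔ B, cj x K = K := fun _ hx =>
  nm_iff.1 ((sup_le (fun y hy => nm_iff.2 (hA y hy)) (fun y hy => nm_iff.2 (hB y hy)) :
    A ⊔ B ≤ Subgroup.normalizer (K : Set G)) hx)

/-- elements of `P Q` when `P` normalises `Q` -/
theorem mem_sup_nm {P Q : Subgroup G} (h : ∀ x ∈ P, cj x Q = Q) {g : G} (hg : g ∈ P ⊔ Q) :
    ∃ x ∈ P, ∃ y ∈ Q, g = x * y := by
  let L : Subgroup G :=
    { carrier := {g | ∃ x ∈ P, ∃ y ∈ Q, g = x * y}
      one_mem' := ⟨1, one_mem _, 1, one_mem _, (mul_one 1).symm⟩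
      mul_mem' := by
        rintro _ _ ⟨x, hx, y, hy, rfl⟩ ⟨x', hx', y', hy', rfl⟩
        exact ⟨x * x', mul_mem hx hx', x'⁻¹ * y * x' * y', mul_mem (nm_conj' (h x' hx') hy) hy', by group⟩
      inv_mem' := by
        rintro _ ⟨x, hx, y, hy, rfl⟩
        exact ⟨x⁻¹, inv_mem hx, x * y⁻¹ * x⁻¹, nm_conj (h x hx) (inv_mem hy), by group⟩ }
  have h1 : P ⊔ Q ≤ L := sup_le (fun x hx => ⟨x, hx, 1, one_mem _, (mul_one x).symm⟩)
    (fun y hy => ⟨1, one_mem _, y, hy, (one_mul y).symm⟩)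
  exact h1 hg

theorem mem_sup_nm' {P Q : Subgroup G} (h : ∀ x ∈ P, cj x Q = Q) {g : G} (hg : g ∈ P ⊔ Q) :
    ∃ y ∈ Q, ∃ x ∈ P, g = y * x := by
  obtain ⟨x, hx, y, hy, rfl⟩ := mem_sup_nm h hg
  exact ⟨x * y * x⁻¹, nm_conj (h x hx) hy, x, hx, by group⟩

variable {Ω : Type*} [MulAction G Ω]

theorem cj_stab (g : G) (a : Ω) : cj g (stabilizer G a) = stabilizer G (g • a) := by
  ext x
  rw [mem_cj, mem_stabilizer_iff, mem_stabilizer_iff, mul_smul, mul_smul, inv_smul_eq_iff]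

theorem cj_le_stab {g : G} {K : Subgroup G} {a : Ω} : cj g K ≤ stabilizer G (g • a) ↔ K ≤ stabilizer G a := by
  rw [← cj_stab, cj_le_cj_iff]

theorem cj_le_stab' {g : G} {K : Subgroup G} {a : Ω} : cj g K ≤ stabilizer G a ↔ K ≤ stabilizer G (g⁻¹ • a) := by
  rw [← cj_le_stab (g := g) (a := g⁻¹ • a), smul_inv_smul]

theorem le_stab_smul {g : G} {K : Subgroup G} {a : Ω} (hg : cj g K = K) (h : K ≤ stabilizer G a) :
    K ≤ stabilizer G (g • a) := by
  rw [← hg]; exact cj_le_stab.2 h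

theorem nm_stab {g : G} {a : Ω} (h : g • a = a) : cj g (stabilizer G a) = stabilizer G a := by
  rw [cj_stab, h]

/-- the conjugation action on subgroups -/
@[reducible] def cjAct (G : Type*) [Group G] : MulAction G (Subgroup G) where
  smul := cj
  one_smul := cj_one
  mul_smul := cj_mul

/-- the fixed points of a subgroup -/
def Fx (K : Subgroup G) : Set Ω := {b | K ≤ stabilizer G b}

theorem mem_Fx {K : Subgroup G} {b : Ω} : b ∈ (Fx K : Set Ω) ↔ K ≤ stabilizer G b := Iff.rfl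

theorem Fx_cj (g : G) (K : Subgroup G) : (Fx (cj g K) : Set Ω) = (fun b => g • b) '' Fx K := by
  ext b
  rw [mem_Fx, cj_le_stab']
  exact ⟨fun h => ⟨g⁻¹ • b, h, smul_inv_smul g b⟩, by rintro ⟨c, hc, rfl⟩; rw [inv_smul_smul]; exact hc⟩

theorem ncard_Fx_cj (g : G) (K : Subgroup G) : (Fx (cj g K) : Set Ω).ncard = (Fx K : Set Ω).ncard := by
  rw [Fx_cj, Set.ncard_image_of_injective _ (MulAction.injective g)]

/-- the orbit of a subgroup -/
def Orb (L : Subgroup G) (b : Ω) : Set Ω := {c | ∃ g ∈ L, g • b = c}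

theorem self_mem_Orb (L : Subgroup G) (b : Ω) : b ∈ Orb L b := ⟨1, one_mem _, one_smul _ _⟩

theorem smul_mem_Orb {L : Subgroup G} {b c : Ω} {g : G} (hg : g ∈ L) (hc : c ∈ Orb L b) : g • c ∈ Orb L b := by
  obtain ⟨x, hx, rfl⟩ := hc
  exact ⟨g * x, mul_mem hg hx, mul_smul _ _ _⟩

theorem Orb_eq {L : Subgroup G} {b c : Ω} (hc : c ∈ Orb L b) : Orb L c = Orb L b := by
  obtain ⟨x, hx, rfl⟩ := hc
  ext d
  constructor
  · rintro ⟨y, hy, rfl⟩
    exact ⟨y * x, mul_mem hy hx, mul_smul _ _ _⟩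
  · rintro ⟨y, hy, rfl⟩
    exact ⟨y * x⁻¹, mul_mem hy (inv_mem hx), by rw [mul_smul, inv_smul_smul]⟩

theorem ncard_Orb_mul (L : Subgroup G) (b : Ω) :
    (Orb L b).ncard * Nat.card ↥(L ⊓ stabilizer G b) = Nat.card L := by
  have h1 : Orb L b = orbit L b := by
    ext c
    exact ⟨fun ⟨g, hg, h⟩ => ⟨⟨g, hg⟩, h⟩, fun ⟨g, h⟩ => ⟨g, g.2, h⟩⟩
  have h2 : Nat.card ↥(L ⊓ stabilizer G b) = Nat.card (stabilizer L b) :=
    Nat.card_congr
      { toFun := fun x => ⟨⟨x.1, x.2.1⟩, x.2.2⟩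
        invFun := fun x => ⟨x.1.1, x.1.2, x.2⟩
        left_inv := fun _ => rfl
        right_inv := fun _ => rfl }
  rw [h1, h2, ← Nat.card_coe_set_eq, ← Nat.card_prod]
  exact Nat.card_congr (orbitProdStabilizerEquivGroup _ b)

theorem finite_Orb [Finite G] (L : Subgroup G) (b : Ω) : (Orb L b).Finite :=
  (Set.finite_range fun g : G => g • b).subset (by rintro _ ⟨g, -, rfl⟩; exact ⟨g, rfl⟩)

/-- `d` divides the size of an invariant set if it divides all orbit lengths -/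
theorem dvd_ncard_of_Orb (L : Subgroup G) {d : ℕ} (A : Set Ω) (hfin : A.Finite)
    (hinv : ∀ g ∈ L, ∀ b ∈ A, g • b ∈ A) (hd : ∀ b ∈ A, d ∣ (Orb L b).ncard) : d ∣ A.ncard := by
  generalize hn : A.ncard = n
  induction n using Nat.strong_induction_on generalizing A with
  | _ n ih =>
  rcases A.eq_empty_or_nonempty with rfl | ⟨a, ha⟩
  · rw [← hn, Set.ncard_empty]
    exact dvd_zero d
  have h1 : Orb L a ⊆ A := by
    rintro _ ⟨h, hh, rfl⟩
    exact hinv h hh a ha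
  have h2 := Set.ncard_sdiff_add_ncard_of_subset h1 hfin
  have h3 : 0 < (Orb L a).ncard := (Set.ncard_pos (hfin.subset h1)).2 ⟨a, self_mem_Orb L a⟩
  have h4 := ih _ (by omega) (A \ Orb L a) (hfin.subset Set.sdiff_subset) (fun h hh b hb =>
    ⟨hinv h hh b hb.1, fun h5 => hb.2 (by
      have h6 := smul_mem_Orb (inv_mem hh) h5
      rwa [inv_smul_smul] at h6)⟩) (fun b hb => hd b hb.1) rfl
  rw [← hn, ← h2]
  exact dvd_add h4 (hd a ha)

/-- fixed points of a `p`-group modulo `p` -/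
theorem modEq_fix {p : ℕ} [Fact p.Prime] {X : Subgroup G} (hX : IsPGroup p X) (A : Set Ω) (hfin : A.Finite)
    (hinv : ∀ g ∈ X, ∀ b ∈ A, g • b ∈ A) : A.ncard ≡ (A ∩ Fx X).ncard [MOD p] := by
  let B : SubMulAction X Ω := ⟨A, fun g _ hb => hinv g g.2 _ hb⟩
  have : Finite B := hfin
  have h1 := hX.card_modEq_card_fixedPoints B
  have h2 : Nat.card (fixedPoints X B) = Nat.card ↥(A ∩ Fx X) :=
    Nat.card_congr
      { toFun := fun b => ⟨b.1.1, b.1.2, fun x hx => congrArg Subtype.val (b.2 ⟨x, hx⟩)⟩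
        invFun := fun b => ⟨⟨b.1, b.2.1⟩, fun x => Subtype.ext (b.2.2 x.2)⟩
        left_inv := fun _ => rfl
        right_inv := fun _ => rfl }
  rw [h2, Nat.card_coe_set_eq] at h1
  rwa [← Nat.card_coe_set_eq]

/-- a bound for the index -/
theorem card_le_mul [Finite G] {B B' : Subgroup G} {β : Type*} (f : G → β) (A : Set β) (hA : A.Finite)
    (h1 : ∀ g ∈ B, f g ∈ A) (h2 : ∀ g ∈ B, ∀ g' ∈ B, f g = f g' → g⁻¹ * g' ∈ B') :
    Nat.card B ≤ A.ncard * Nat.card B' := by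
  classical
  have : Finite A := hA
  let r : A → G := fun x => if h : ∃ g ∈ B, f g = x then h.choose else 1
  have hr : ∀ g (hg : g ∈ B), r ⟨f g, h1 g hg⟩ ∈ B ∧ f (r ⟨f g, h1 g hg⟩) = f g := fun g hg => by
    have h : ∃ g' ∈ B, f g' = f g := ⟨g, hg, rfl⟩
    simp only [r, dif_pos h]
    exact h.choose_spec
  let φ : B → A × B' := fun g => (⟨f g, h1 g g.2⟩, ⟨(r ⟨f g, h1 g g.2⟩)⁻¹ * g, h2 _ (hr g g.2).1 _ g.2 (hr g g.2).2⟩)
  have hφ : Function.Injective φ := fun g g' h => by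
    have h3 : (⟨f g, h1 g g.2⟩ : A) = ⟨f g', h1 g' g'.2⟩ := congrArg Prod.fst h
    have h4 : (r ⟨f g, h1 g g.2⟩)⁻¹ * g = (r ⟨f g', h1 g' g'.2⟩)⁻¹ * g' := congrArg (fun x => (x.2 : G)) h
    rw [h3] at h4
    exact Subtype.ext (mul_left_cancel h4)
  rw [← Nat.card_coe_set_eq, ← Nat.card_prod]
  exact Nat.card_le_card_of_injective φ hφ

end Cj

section PGrp

variable {G : Type*} [Group G] {p : ℕ}

theorem isP_sup {P Q : Subgroup G} (hP : IsPGroup p P) (hQ : IsPGroup p Q) (h : ∀ x ∈ P, cj x Q = Q) :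
    IsPGroup p ↥(P ⊔ Q) := hP.to_sup_of_normal_right' hQ fun x hx => nm_iff.2 (h x hx)

theorem isP_zpowers {g : G} {n : ℕ} (h : g ^ p ^ n = 1) : IsPGroup p (Subgroup.zpowers g) := by
  rintro ⟨_, k, rfl⟩
  refine ⟨n, Subtype.ext ?_⟩
  show (g ^ k) ^ p ^ n = 1
  rw [← zpow_natCast, ← zpow_mul, mul_comm, zpow_mul, zpow_natCast, h, one_zpow]

theorem exists_pow_of_isP {P : Subgroup G} (hP : IsPGroup p P) {g : G} (hg : g ∈ P) : ∃ n : ℕ, g ^ p ^ n = 1 := by
  obtain ⟨n, hn⟩ := hP ⟨g, hg⟩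
  exact ⟨n, congrArg Subtype.val hn⟩

/-- `S` is a maximal `p`-subgroup of `L` -/
structure MaxP (p : ℕ) (L S : Subgroup G) : Prop where
  le : S ≤ L
  isP : IsPGroup p S
  max : ∀ R : Subgroup G, IsPGroup p R → R ≤ L → S ≤ R → R = S

theorem MaxP.cj {L S : Subgroup G} (h : MaxP p L S) (g : G) : MaxP p (cj g L) (cj g S) where
  le := cj_mono g h.le
  isP := isPGroup_cj h.isP g
  max R hR h1 h2 := by
    have h3 := h.max (TH.cj g⁻¹ R) (isPGroup_cj hR _) ((cj_le_iff _).2 (by rwa [inv_inv]))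
      ((cj_le_iff g).1 h2)
    rw [← h3, cj_cj_inv]

theorem MaxP.mono {L L' S : Subgroup G} (h : MaxP p L S) (h1 : S ≤ L') (h2 : L' ≤ L) : MaxP p L' S :=
  ⟨h1, h.isP, fun R hR h3 h4 => h.max R hR (h3.trans h2) h4⟩

/-- a `p`-subgroup normalised by `S` lies in `S` -/
theorem MaxP.le_of_nm {L S P : Subgroup G} (h : MaxP p L S) (hP : IsPGroup p P) (h1 : P ≤ L)
    (h2 : ∀ x ∈ S, TH.cj x P = P) : P ≤ S := by
  rw [← h.max _ (isP_sup h.isP hP h2) (sup_le h.le h1) le_sup_left]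
  exact le_sup_right

/-- a `p`-subgroup normalising `S` lies in `S` -/
theorem MaxP.le_of_nm' {L S P : Subgroup G} (h : MaxP p L S) (hP : IsPGroup p P) (h1 : P ≤ L)
    (h2 : ∀ x ∈ P, TH.cj x S = S) : P ≤ S := by
  rw [← h.max _ (isP_sup hP h.isP h2) (sup_le h1 h.le) le_sup_right]
  exact le_sup_left

theorem MaxP.mem_of_nm {L S : Subgroup G} (h : MaxP p L S) {g : G} {n : ℕ} (hg : g ^ p ^ n = 1) (h1 : g ∈ L)
    (h2 : TH.cj g S = S) : g ∈ S :=
  h.le_of_nm' (isP_zpowers hg) (Subgroup.zpowers_le.2 h1)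
    (fun _ hx => nm_iff.1 ((Subgroup.zpowers_le.2 (nm_iff.2 h2)) hx)) (Subgroup.mem_zpowers g)

variable [Finite G]

theorem exists_maxP {L P : Subgroup G} (hP : IsPGroup p P) (h : P ≤ L) : ∃ S, P ≤ S ∧ MaxP p L S := by
  obtain ⟨S, ⟨h1, h2, h3⟩, hmax⟩ := Set.exists_max_image {S : Subgroup G | P ≤ S ∧ S ≤ L ∧ IsPGroup p S}
    (fun S => Nat.card S) (Set.toFinite _) ⟨P, le_rfl, h, hP⟩
  exact ⟨S, h1, h2, h3, fun R hR h4 h5 =>
    (Subgroup.eq_of_le_of_card_ge h5 (hmax R ⟨h1.trans h5, h4, hR⟩)).symm⟩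

variable [hp : Fact p.Prime]

/-- Sylow's theorem -/
theorem MaxP.exists_cj {L S P : Subgroup G} (h : MaxP p L S) (hP : IsPGroup p P) (h1 : P ≤ L) :
    ∃ g ∈ L, P ≤ TH.cj g S := by
  let S' : Sylow p L := ⟨S.subgroupOf L, h.isP.comap_subtype, fun {R} hR hle => by
    have h2 := h.max (R.map L.subtype) (hR.map _) (Subgroup.map_subtype_le _)
      (fun x hx => ⟨⟨x, h.le hx⟩, hle hx, rfl⟩)
    rw [← h2]
    exact (Subgroup.comap_map_eq_self_of_injective L.subtype_injective R).symm⟩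
  obtain ⟨Q, hQ⟩ := (hP.comap_subtype (K := L)).exists_le_sylow
  obtain ⟨g, hg⟩ := exists_smul_eq L S' Q
  refine ⟨g, g.2, fun x hx => ?_⟩
  have h2 : (⟨x, h1 hx⟩ : L) ∈ Q := hQ hx
  rw [← hg] at h2
  obtain ⟨y, hy, hy'⟩ := h2
  exact ⟨y, hy, congrArg Subtype.val hy'⟩

theorem MaxP.card_le {L S P : Subgroup G} (h : MaxP p L S) (hP : IsPGroup p P) (h1 : P ≤ L) :
    Nat.card P ≤ Nat.card S := by
  obtain ⟨g, -, hg⟩ := h.exists_cj hP h1
  rw [← card_cj g S]
  exact Subgroup.card_le_of_le hg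

theorem MaxP.of_card {L S P : Subgroup G} (h : MaxP p L S) (hP : IsPGroup p P) (h1 : P ≤ L)
    (h2 : Nat.card S ≤ Nat.card P) : MaxP p L P :=
  ⟨h1, hP, fun R hR h3 h4 => (Subgroup.eq_of_le_of_card_ge h4 ((h.card_le hR h3).trans h2)).symm⟩

theorem MaxP.exists_eq {L S S' : Subgroup G} (h : MaxP p L S) (h' : MaxP p L S') : ∃ g ∈ L, S' = TH.cj g S := by
  obtain ⟨g, hg, h1⟩ := h.exists_cj h'.isP h'.le
  exact ⟨g, hg, (h'.max _ (isPGroup_cj h.isP g) (by rw [← cj_of_mem hg]; exact cj_mono g h.le) h1).symm⟩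

/-- intersection with a normal subgroup -/
theorem MaxP.inf {L S N : Subgroup G} (h : MaxP p L S) (h1 : N ≤ L) (h2 : ∀ g ∈ L, TH.cj g N = N) :
    MaxP p N (S ⊓ N) := by
  obtain ⟨R, -, hR⟩ := exists_maxP (p := p) (L := N) (P := ⊥) IsPGroup.of_bot bot_le
  obtain ⟨g, hg, h3⟩ := h.exists_cj hR.isP (hR.le.trans h1)
  refine hR.of_card (h.isP.to_le inf_le_left) inf_le_right ?_
  rw [← card_cj g (S ⊓ N), cj_inf, h2 g hg]
  exact Subgroup.card_le_of_le (le_inf h3 hR.le)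

/-- Frattini -/
theorem MaxP.frattini {N S : Subgroup G} (h : MaxP p N S) {g : G} (hg : TH.cj g N = N) :
    ∃ n ∈ N, TH.cj (n⁻¹ * g) S = S := by
  obtain ⟨n, hn, h1⟩ := h.exists_eq (hg ▸ h.cj g)
  exact ⟨n, hn, by rw [cj_mul, h1, cj_inv_cj]⟩

theorem MaxP.not_dvd {L S : Subgroup G} (h : MaxP p L S) : ¬ p ∣ S.relIndex L := by
  let S' : Sylow p L := ⟨S.subgroupOf L, h.isP.comap_subtype, fun {R} hR hle => by
    have h2 := h.max (R.map L.subtype) (hR.map _) (Subgroup.map_subtype_le _)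
      (fun x hx => ⟨⟨x, h.le hx⟩, hle hx, rfl⟩)
    rw [← h2]
    exact (Subgroup.comap_map_eq_self_of_injective L.subtype_injective R).symm⟩
  exact S'.not_dvd_index

/-- normalisers grow in `p`-groups -/
theorem exists_nm_of_lt {V Q : Subgroup G} (hQ : IsPGroup p Q) (h1 : V ≤ Q) (h2 : ¬ Q ≤ V) :
    ∃ w ∈ Q, w ∉ V ∧ cj w V = V := by
  have := hQ.isNilpotent
  have h3 : V.subgroupOf Q < ⊤ := lt_top_iff_ne_top.2 fun h => h2 (Subgroup.subgroupOf_eq_top.1 h)
  obtain ⟨w, hw, hw'⟩ := SetLike.exists_of_lt (Group.normalizerCondition_of_isNilpotent _ h3)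
  refine ⟨w, w.2, hw', nm_of_conj fun x hx => ?_⟩
  exact (Subgroup.mem_normalizer_iff.1 hw ⟨x, h1 hx⟩).1 hx

/-- the largest normal `p`-subgroup of `L` -/
def Op (p : ℕ) (L : Subgroup G) : Subgroup G := sSup {P | P ≤ L ∧ IsPGroup p P ∧ ∀ g ∈ L, cj g P = P}

theorem le_Op {L P : Subgroup G} (h1 : P ≤ L) (h2 : IsPGroup p P) (h3 : ∀ g ∈ L, cj g P = P) : P ≤ Op p L :=
  le_sSup ⟨h1, h2, h3⟩

theorem Op_spec (L : Subgroup G) : Op p L ≤ L ∧ IsPGroup p (Op p L) ∧ ∀ g ∈ L, cj g (Op p L) = Op p L := by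
  obtain ⟨M, hM, hmax⟩ := Set.exists_max_image {P : Subgroup G | P ≤ L ∧ IsPGroup p P ∧ ∀ g ∈ L, cj g P = P}
    (fun S => Nat.card S) (Set.toFinite _) ⟨⊥, bot_le, IsPGroup.of_bot, fun g _ => cj_bot g⟩
  have h1 : Op p L = M := le_antisymm (sSup_le fun P hP => by
    have h2 := hmax (P ⊔ M) ⟨sup_le hP.1 hM.1, isP_sup hP.2.1 hM.2.1 fun x hx => hM.2.2 x (hP.1 hx),
      fun g hg => nm_sup (hP.2.2 g hg) (hM.2.2 g hg)⟩
    rw [Subgroup.eq_of_le_of_card_ge (le_sup_right : M ≤ P ⊔ M) h2]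
    exact le_sup_left) (le_sSup hM)
  rw [h1]
  exact hM

theorem nm_Op {L : Subgroup G} {g : G} (hg : cj g L = L) : cj g (Op p L) = Op p L := by
  obtain ⟨h1, h2, h3⟩ := Op_spec (p := p) L
  refine nm_of_le (le_Op ((cj_mono g h1).trans hg.le) (isPGroup_cj h2 g) fun x hx => ?_)
  exact nm_cj_iff.2 (h3 _ (nm_conj' hg hx))

theorem card_eq_pow {P : Subgroup G} (hP : IsPGroup p P) : ∃ n, Nat.card P = p ^ n := IsPGroup.iff_card.1 hP

theorem card_mul_relIndex {A B : Subgroup G} (h : A ≤ B) : Nat.card A * A.relIndex B = Nat.card B := by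
  rw [← (A.subgroupOf B).card_mul_index, Nat.card_congr (Subgroup.subgroupOfEquivOfLe h).toEquiv]
  rfl

theorem relIndex_eq_pow {A P : Subgroup G} (hP : IsPGroup p P) : ∃ n, A.relIndex P = p ^ n := by
  obtain ⟨n, hn⟩ := card_eq_pow hP
  obtain ⟨k, -, hk⟩ := (Nat.dvd_prime_pow hp.1).1 (hn ▸ Subgroup.relIndex_dvd_card A P)
  exact ⟨k, hk⟩

/-- orbits of `p`-groups -/
theorem ncard_Orb_eq_pow {Ω : Type*} [MulAction G Ω] {P : Subgroup G} (hP : IsPGroup p P) (b : Ω) :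
    ∃ n, (Orb P b).ncard = p ^ n := by
  obtain ⟨n, hn⟩ := card_eq_pow hP
  obtain ⟨k, -, hk⟩ := (Nat.dvd_prime_pow hp.1).1 (hn ▸ Dvd.intro _ (ncard_Orb_mul P b))
  exact ⟨k, hk⟩

end PGrp

section Cjs

variable {G : Type*} [Group G] {p : ℕ}

theorem self_mem_Cjs (L X : Subgroup G) : X ∈ Cjs L X := ⟨1, one_mem _, (cj_one X).symm⟩

theorem cj_mem_Cjs {L X P : Subgroup G} {e : G} (he : e ∈ L) (hP : P ∈ Cjs L X) : cj e P ∈ Cjs L X := by
  obtain ⟨f, hf, rfl⟩ := hP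
  exact ⟨e * f, mul_mem he hf, (cj_mul _ _ _).symm⟩

theorem Cjs_mono {L L' X : Subgroup G} (h : L ≤ L') : Cjs L X ⊆ Cjs L' X := fun _ ⟨e, he, h1⟩ => ⟨e, h he, h1⟩

theorem le_of_mem_Cjs {L X P : Subgroup G} (h : X ≤ L) (hP : P ∈ Cjs L X) : P ≤ L := by
  obtain ⟨e, he, rfl⟩ := hP
  rw [← cj_of_mem he]
  exact cj_mono e h

theorem card_of_mem_Cjs {L X P : Subgroup G} (hP : P ∈ Cjs L X) : Nat.card P = Nat.card X := by
  obtain ⟨e, -, rfl⟩ := hP
  exact card_cj e X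

theorem isP_of_mem_Cjs {L X P : Subgroup G} (h : IsPGroup p X) (hP : P ∈ Cjs L X) : IsPGroup p P := by
  obtain ⟨e, -, rfl⟩ := hP
  exact isPGroup_cj h e

theorem Cjs_eq_Orb (L X : Subgroup G) : Cjs L X = @Orb G _ _ (cjAct G) L X := by
  ext P
  exact ⟨fun ⟨e, he, h⟩ => ⟨e, he, h.symm⟩, fun ⟨e, he, h⟩ => ⟨e, he, h.symm⟩⟩

theorem Cjs_eq_of_mem {L X P : Subgroup G} (hP : P ∈ Cjs L X) : Cjs L P = Cjs L X := by
  rw [Cjs_eq_Orb] at hP
  rw [Cjs_eq_Orb, Cjs_eq_Orb]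
  exact @Orb_eq G _ _ (cjAct G) _ _ _ hP

theorem Cjs_cj (g : G) (L X : Subgroup G) : Cjs (cj g L) (cj g X) = cj g '' Cjs L X := by
  ext P
  constructor
  · rintro ⟨_, ⟨e, he, rfl⟩, rfl⟩
    refine ⟨cj e X, ⟨e, he, rfl⟩, ?_⟩
    show _ = cj (g * e * g⁻¹) (cj g X)
    rw [← cj_mul, ← cj_mul, inv_mul_cancel_right]
  · rintro ⟨_, ⟨e, he, rfl⟩, rfl⟩
    exact ⟨g * e * g⁻¹, conj_mem_cj g he, by rw [← cj_mul, ← cj_mul, inv_mul_cancel_right]⟩

theorem mem_Cjs_cj {g : G} {L X P : Subgroup G} : P ∈ Cjs (cj g L) (cj g X) ↔ cj g⁻¹ P ∈ Cjs L X := by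
  rw [Cjs_cj]
  exact ⟨by rintro ⟨R, hR, rfl⟩; rwa [cj_inv_cj], fun h => ⟨_, h, cj_cj_inv g P⟩⟩

theorem cj_mem_Cjs_cj {g : G} {L X P : Subgroup G} : cj g P ∈ Cjs (cj g L) (cj g X) ↔ P ∈ Cjs L X := by
  rw [mem_Cjs_cj, cj_inv_cj]

theorem cj_mem_Cjs_nm {g : G} {L X P : Subgroup G} (h1 : cj g L = L) (h2 : cj g X = X) (hP : P ∈ Cjs L X) :
    cj g P ∈ Cjs L X := by
  rw [← h1, ← h2]; exact cj_mem_Cjs_cj.2 hP

theorem nS_cj (g : G) (L X : Subgroup G) : nS (cj g L) (cj g X) = nS L X := by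
  rw [nS, Cjs_cj, Set.ncard_image_of_injective _ fun _ _ h => cj_inj g h]
  rfl

theorem mem_rad {L X : Subgroup G} {x : G} : x ∈ rad L X ↔ ∀ P ∈ Cjs L X, x ∈ P := Subgroup.mem_sInf

theorem rad_le {L X P : Subgroup G} (hP : P ∈ Cjs L X) : rad L X ≤ P := sInf_le hP

theorem rad_le_self (L X : Subgroup G) : rad L X ≤ X := rad_le (self_mem_Cjs L X)

theorem rad_anti {L L' X : Subgroup G} (h : L ≤ L') : rad L' X ≤ rad L X := sInf_le_sInf (Cjs_mono h)

theorem rad_cj (g : G) (L X : Subgroup G) : rad (cj g L) (cj g X) = cj g (rad L X) := by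
  ext x
  rw [mem_cj, mem_rad, mem_rad]
  constructor
  · intro h P hP
    exact mem_cj.1 (h _ (cj_mem_Cjs_cj.2 hP))
  · intro h P hP
    have h1 := h _ (mem_Cjs_cj.1 hP)
    rw [mem_cj] at h1
    simpa [mul_assoc] using h1

theorem nm_rad' {L X : Subgroup G} {g : G} (h1 : cj g L = L) (h2 : cj g X = X) : cj g (rad L X) = rad L X := by
  rw [← rad_cj, h1, h2]

theorem nm_rad {L X : Subgroup G} {g : G} (hg : g ∈ L) : cj g (rad L X) = rad L X := by
  rw [← rad_cj, cj_of_mem hg, rad, Cjs_eq_of_mem ⟨g, hg, rfl⟩]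
  rfl

theorem le_rad {L X P : Subgroup G} (h1 : P ≤ X) (h2 : ∀ g ∈ L, cj g P = P) : P ≤ rad L X := by
  refine le_sInf ?_
  rintro _ ⟨e, he, rfl⟩
  rw [← h2 e he]
  exact cj_mono e h1

theorem Spl.cj {L X : Subgroup G} (h : Spl L X) (g : G) : Spl (cj g L) (cj g X) := by
  intro P hP h1 P' hP' h2
  obtain ⟨x, hx, h3⟩ := h _ (mem_Cjs_cj.1 hP) (fun h4 => h1 (by rw [← h4, cj_cj_inv])) _ (mem_Cjs_cj.1 hP')
    (fun h4 => h2 (by rw [← h4, cj_cj_inv]))
  refine ⟨g * x * g⁻¹, conj_mem_cj g hx, ?_⟩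
  rw [cj_mul, cj_mul, h3, cj_cj_inv]

theorem spl_cj_iff {L X : Subgroup G} (g : G) : Spl (cj g L) (cj g X) ↔ Spl L X :=
  ⟨fun h => by simpa only [cj_inv_cj] using h.cj g⁻¹, fun h => h.cj g⟩

theorem nS_mul (L X : Subgroup G) :
    nS L X * Nat.card ↥(L ⊓ Subgroup.normalizer (X : Set G)) = Nat.card L := by
  have h1 := @ncard_Orb_mul G _ _ (cjAct G) L X
  have h2 : @stabilizer G _ _ (cjAct G) X = Subgroup.normalizer (X : Set G) := by
    ext g
    exact nm_iff.symm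
  rw [h2, ← Cjs_eq_Orb] at h1
  exact h1

variable [Finite G]

theorem finite_Cjs (L X : Subgroup G) : (Cjs L X).Finite := Set.toFinite _

theorem nS_pos (L X : Subgroup G) : 0 < nS L X := (Set.ncard_pos (finite_Cjs L X)).2 ⟨X, self_mem_Cjs L X⟩

theorem eq_of_le_Cjs {L X P R : Subgroup G} (hP : P ∈ Cjs L X) (hR : R ∈ Cjs L X) (h : P ≤ R) : P = R :=
  Subgroup.eq_of_le_of_card_ge h (by rw [card_of_mem_Cjs hP, card_of_mem_Cjs hR])

theorem MaxP.of_mem_Cjs {L X P : Subgroup G} (h : MaxP p L X) (hP : P ∈ Cjs L X) : MaxP p L P := by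
  obtain ⟨e, he, rfl⟩ := hP
  have h1 := h.cj e
  rwa [cj_of_mem he] at h1

variable [hp : Fact p.Prime]

theorem MaxP.mem_Cjs {L X P : Subgroup G} (h : MaxP p L X) (hP : MaxP p L P) : P ∈ Cjs L X := h.exists_eq hP

theorem MaxP.exists_le_Cjs {L X P : Subgroup G} (h : MaxP p L X) (hP : IsPGroup p P) (h1 : P ≤ L) :
    ∃ R ∈ Cjs L X, P ≤ R := by
  obtain ⟨g, hg, h2⟩ := h.exists_cj hP h1
  exact ⟨_, ⟨g, hg, rfl⟩, h2⟩

/-- a set of Sylow subgroups which contains `X` and is invariant under `X` -/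
theorem MaxP.ncard_modEq {L X : Subgroup G} (h : MaxP p L X) {A : Set (Subgroup G)} (h1 : A ⊆ Cjs L X) (h2 : X ∈ A)
    (h3 : ∀ x ∈ X, ∀ P ∈ A, TH.cj x P ∈ A) : A.ncard ≡ 1 [MOD p] := by
  have h4 := @modEq_fix G _ _ (cjAct G) p _ X h.isP A (Set.toFinite _) h3
  have h5 : A ∩ @Fx G _ _ (cjAct G) X = {X} := by
    ext P
    constructor
    · rintro ⟨hP, hP'⟩
      exact (eq_of_le_Cjs (self_mem_Cjs L X) (h1 hP)
        ((h.of_mem_Cjs (h1 hP)).le_of_nm' h.isP h.le fun x hx => hP' hx)).symm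
    · rintro rfl
      exact ⟨h2, fun x hx => cj_of_mem hx⟩
  rwa [h5, Set.ncard_singleton] at h4

theorem MaxP.nS_modEq {L X : Subgroup G} (h : MaxP p L X) : nS L X ≡ 1 [MOD p] :=
  h.ncard_modEq subset_rfl (self_mem_Cjs L X) fun _ hx _ hP => cj_mem_Cjs (h.le hx) hP

/-- in the split case the number of conjugates is `q + 1`, `q` a power of `p` -/
theorem Spl.exists_pow {L X : Subgroup G} (h : Spl L X) (hX : IsPGroup p X) (hle : X ≤ L) {P : Subgroup G}
    (hP : P ∈ Cjs L X) (hne : P ≠ X) : ∃ n, nS L X = p ^ n + 1 := by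
  obtain ⟨n, hn⟩ := @ncard_Orb_eq_pow G _ p _ _ _ (cjAct G) X hX P
  refine ⟨n, ?_⟩
  have h1 : @Orb G _ _ (cjAct G) X P = Cjs L X \ {X} := by
    ext R
    constructor
    · rintro ⟨x, hx, rfl⟩
      refine ⟨cj_mem_Cjs (hle hx) hP, fun h2 => hne ?_⟩
      have h3 : TH.cj x P = TH.cj x X := by rw [cj_of_mem hx]; exact h2
      exact cj_inj x h3
    · rintro ⟨hR, hR'⟩
      exact h P hP hne R hR hR'
  rw [h1] at hn
  rw [← hn, nS, Set.ncard_sdiff_singleton_add_one (self_mem_Cjs L X) (finite_Cjs L X)]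

end Cjs

end Cfsg.Agent.TH.Own

private theorem dce_80174f86ed97 : _root_.True := by
  try have : _root_.True := by simp only [_root_.Cfsg.Agent.TH.Own.rad.eq_1]
  try have : _root_.True := by simp only [_root_.Cfsg.Agent.TH.Own.nS.eq_1]
  exact _root_.True.intro
end

-- part: TH/Cl/Defs
section
set_option linter.all false

/-!
# S3541, classical socles: interface (captain helper73)

Frame of `DS/Cl`, `SB/Cl`: `F : FR A`, `F.S ≤ G ≤ F.Aut`, `H ≤ G` the point stabiliser (`Ctx F G H m p`).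
The boxes are `No* P`: no example of the given kind has the property `P`.  See `notes/TH/cl.md`.
-/

set_option autoImplicit false

namespace Cfsg.Agent.TH

/-- `N` is a non-abelian simple subgroup of `H ⊓ T`, normal in `H`, with trivial centraliser in `T` -/
structure Sim {G : Type*} [Group G] (T H N : Subgroup G) : Prop where
  le : N ≤ H ⊓ T
  nrm : ∀ h ∈ H, ∀ x ∈ N, h * x * h⁻¹ ∈ N
  simple : IsSimpleGroup N
  nonab : ¬ IsMulCommutative N
  cent : ∀ t ∈ T, (∀ x ∈ N, t * x = x * t) → t = 1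

/-- the classical groups in characteristic `p` -/
def IsCl (p : ℕ) (T : Type*) [Group T] : Prop :=
  IsPSLChar p T ∨ IsPSpChar p T ∨ IsPSUChar p T ∨ IsPOmegaOddChar p T ∨ IsPOmegaPlusChar p T ∨ IsPOmegaMinusChar p T

/-- no example with `H ⊓ T` almost simple, `T` in the family `P`, the socle `N` of `H ⊓ T` in the family `Q` -/
def NoSim (P Q : ℕ → ∀ (T : Type) [Group T], Prop) : Prop := AllK →
  ∀ (G : Type) [Group G] [Finite G] (T H N : Subgroup G) (m p : ℕ), LieCtx T H m p → ¬ HasOwn p H → Sim T H N →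
    P p ↥T → Q p ↥N → False

/-- [S-AltBig] classical `T`, `N` alternating of degree at least 23 -/
def BoxSimAltBig : Prop :=
  NoSim (fun p T _ => IsCl p T) fun _ N _ => ∃ c, 23 ≤ c ∧ Nonempty (N ≃* alternatingGroup (Fin c))

/-- [S-Alt] classical `T`, `N` alternating of degree at most 22, not of Lie type in characteristic `p` -/
def BoxSimAlt : Prop := NoSim (fun p T _ => IsCl p T) fun p N _ =>
  ¬ IsLieTypeChar p N ∧ ∃ c, 5 ≤ c ∧ c ≤ 22 ∧ Nonempty (N ≃* alternatingGroup (Fin c))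

/-- [S-Spor] classical `T`, `N` sporadic or the Tits group -/
def BoxSimSpor : Prop := NoSim (fun p T _ => IsCl p T) fun _ N _ => IsSporadicGroup N ∨ Lie.IsoTits N

/-- [S-Lie] classical `T`, `N` of Lie type in another characteristic -/
def BoxSimLie : Prop := NoSim (fun p T _ => IsCl p T) fun p N _ =>
  ¬ IsLieTypeChar p N ∧ ¬ IsAlternating N ∧ ∃ r : ℕ, r.Prime ∧ IsLieTypeChar r N

namespace Cl

open Cfsg.Agent.DS.Cl Cfsg.Agent.DS.Cl.Fwd Cfsg.Agent.SB.Cl Module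

section defs

variable {A : Type} [Ring A] [StarRing A]

/-- the standing hypotheses -/
structure Ctx (F : FR A) (G H : Subgroup (RingAut A)) (m p : ℕ) : Prop where
  allK : AllK
  ss : SS A
  span : F.Span
  S_le : F.S ≤ G
  le : G ≤ F.Aut
  H_le : H ≤ G
  lie : LieCtx (F.S.subgroupOf G) (H.subgroupOf G) m p
  char : (p : A) = 0
  nown : ¬ HasOwn p (H.subgroupOf G)

/-- an invariant totally singular proper subspace -/
def ParD (F : FR A) (H : Subgroup (RingAut A)) : Prop :=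
  ∃ R : Ideal A, R ≠ ⊥ ∧ Inv H R ∧ (∀ x ∈ R, ∀ y ∈ R, x * star y = 0) ∧ (∀ x ∈ R, x * F.l * star x ∈ F.L) ∧
    ¬ ∀ x ∈ R, ∀ a, x * a ∈ R

/-- an invariant totally isotropic subspace without singular vectors -/
def NSD (F : FR A) (H : Subgroup (RingAut A)) : Prop :=
  ∃ R : Ideal A, R ≠ ⊥ ∧ Inv H R ∧ (∀ x ∈ R, ∀ y ∈ R, x * star y = 0) ∧ ∀ x ∈ R, x * F.l * star x ∈ F.L → x = 0

/-- an invariant orthogonal decomposition with a block of rank at least `k` -/
def BigD (H : Subgroup (RingAut A)) (r : A → ℕ) (k : ℕ) : Prop := ∃ D : Finset A, Fr D ∧ Inv H D ∧ ∃ e ∈ D, k ≤ r e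

/-- there are invariant orthogonal decompositions, and all of them have blocks of rank less than `k` -/
def TorD (H : Subgroup (RingAut A)) (r : A → ℕ) (k : ℕ) : Prop := (∃ D : Finset A, Fr D ∧ Inv H D) ∧ ¬ BigD H r k

/-- irreducible, without invariant orthogonal decomposition -/
def Irr1 (H : Subgroup (RingAut A)) : Prop := Irr H ∧ ∀ D : Finset A, Fr D → ¬ Inv H D

/-- an invariant commutative subring larger than the centre (a pair of totally singular subspaces, or a field) -/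
def FldD (H : Subgroup (RingAut A)) : Prop := Irr1 H ∧ ∃ Z : Subring A, ComSub Z ∧ ¬ Z ≤ Subring.center A ∧ Inv H Z

/-- no invariant subspace, decomposition, commutative subring -/
def Irr2 (H : Subgroup (RingAut A)) : Prop := Irr1 H ∧ ∀ Z : Subring A, ComSub Z → Inv H Z → Z ≤ Subring.center A

/-- an invariant tensor decomposition -/
def TenD (H : Subgroup (RingAut A)) : Prop :=
  Irr2 H ∧ ∃ 𝓑 : Set (Subring A), 𝓑.Nontrivial ∧ (∀ B ∈ 𝓑, Subring.center A ≤ B) ∧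
    (∀ B ∈ 𝓑, ¬ B ≤ Subring.center A) ∧ (∀ B ∈ 𝓑, ∀ x ∈ B, star x ∈ B) ∧
    (∀ B ∈ 𝓑, ∀ B' ∈ 𝓑, B ≠ B' → ∀ x ∈ B, ∀ y ∈ B', x * y = y * x) ∧
    Subring.closure (⋃ B ∈ 𝓑, (B : Set A)) = ⊤ ∧ ∀ γ ∈ H, ∀ B ∈ 𝓑, B.map (γ : A →+* A) ∈ 𝓑

/-- an abelian minimal normal subgroup whose lifts span `A` (symplectic type) -/
def ExD (F : FR A) (H : Subgroup (RingAut A)) : Prop :=
  Irr2 H ∧ ∃ N : Subgroup (RingAut A), N ≤ H ⊓ F.S ∧ Main.MinN H N ∧ (∀ x ∈ N, ∀ y ∈ N, x * y = y * x) ∧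
    Main.alg F N = ⊤

/-- a simple normal subgroup whose lifts span `A` -/
def SimD (F : FR A) (H : Subgroup (RingAut A)) : Prop :=
  Irr2 H ∧ ∃ N : Subgroup (RingAut A), N ≤ H ⊓ F.S ∧ Main.Nrm H N ∧ IsSimpleGroup N ∧ ¬ IsMulCommutative N ∧
    Main.alg F N = ⊤

end defs

/-- properties of `(F, H, rank function)` -/
abbrev Pred : Type 1 := ∀ (A : Type) [Ring A] [StarRing A], FR A → Subgroup (RingAut A) → (A → ℕ) → Prop

section kinds

variable {K V : Type} [Field K] [Fintype K] [AddCommGroup V] [Module K V] [Finite V]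

/-- linear, `L_n(q)`, `q = |K|` -/
structure KL {n : ℕ} (F : FR (LR (Fin n) K)) : Prop where
  dim : 3 ≤ n
  iso : Nonempty (F.S ≃* Matrix.ProjectiveSpecialLinearGroup (Fin n) K)

/-- unitary, `U_n(q)`, `q² = |K|` -/
structure KU (h : HF K V) (F : FR h.EB) (q : ℕ) : Prop where
  u : IsU h
  L : F.L = Lmax h.EB
  card : Fintype.card K = q ^ 2
  dim : 3 ≤ finrank K V
  ne : ¬ (finrank K V = 3 ∧ q = 2)
  iso : Nonempty (F.S ≃* PSU (finrank K V) K q)

/-- symplectic, `PSp_{2k}(q)` -/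
structure KSp (h : HF K V) (F : FR h.EB) (k : ℕ) : Prop where
  sp : IsSp h F
  dim : finrank K V = 2 * k
  two : 2 ≤ k
  ne : k = 2 → 3 ≤ Fintype.card K
  iso : Nonempty (F.S ≃* PSp k K)

/-- orthogonal of dimension at least `7` -/
structure KO (h : HF K V) (F : FR h.EB) (Q : QuadraticForm K V) : Prop where
  o : IsO h F Q
  dim : 7 ≤ finrank K V
  iso : (∃ k, finrank K V = 2 * k + 1 ∧ Odd (Fintype.card K) ∧ Nonempty (F.S ≃* POmega K (quadFormOdd k K)) ∧
        ∃ e : V ≃ₗ[K] (Unit ⊕ (Fin k ⊕ Fin k) → K), ∀ v, Q v = quadFormOdd k K (e v)) ∨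
      (∃ k, finrank K V = 2 * k ∧ Nonempty (F.S ≃* POmega K (quadFormPlus k K)) ∧
        ∃ e : V ≃ₗ[K] (Fin k ⊕ Fin k → K), ∀ v, Q v = quadFormPlus k K (e v)) ∨
      ∃ (k : ℕ) (a b : K), finrank K V = 2 * k ∧ (∀ z₁ z₂ : K, z₁ ^ 2 + a * z₁ * z₂ + b * z₂ ^ 2 = 0 → z₁ = 0 ∧ z₂ = 0) ∧
        Nonempty (F.S ≃* POmega K (quadFormMinus (k - 1) K a b)) ∧
        ∃ e : V ≃ₗ[K] ((Fin (k - 1) ⊕ Fin (k - 1)) ⊕ Fin 2 → K), ∀ v, Q v = quadFormMinus (k - 1) K a b (e v)

end kinds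

def NoL (P : Pred) : Prop := ∀ (K : Type) [Field K] [Fintype K] (n : ℕ) (F : FR (LR (Fin n) K))
  (G H : Subgroup (RingAut (LR (Fin n) K))) (m p : ℕ), KL F → Ctx F G H m p → P _ F H rkL → False

def NoU (P : Pred) : Prop := ∀ (K V : Type) [Field K] [Fintype K] [AddCommGroup V] [Module K V] [Finite V] (h : HF K V)
  (F : FR h.EB) (q : ℕ) (G H : Subgroup (RingAut h.EB)) (m p : ℕ), KU h F q → Ctx F G H m p → P _ F H (rk h) → False

def NoSp (P : Pred) : Prop := ∀ (K V : Type) [Field K] [Fintype K] [AddCommGroup V] [Module K V] [Finite V] (h : HF K V)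
  (F : FR h.EB) (k : ℕ) (G H : Subgroup (RingAut h.EB)) (m p : ℕ), KSp h F k → Ctx F G H m p → P _ F H (rk h) → False

def NoO (P : Pred) : Prop := ∀ (K V : Type) [Field K] [Fintype K] [AddCommGroup V] [Module K V] [Finite V] (h : HF K V)
  (F : FR h.EB) (Q : QuadraticForm K V) (G H : Subgroup (RingAut h.EB)) (m p : ℕ), KO h F Q → Ctx F G H m p →
  P _ F H (rk h) → False

/-- no example of any of the four kinds -/
structure No (P : Pred) : Prop where
  l : NoL P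
  u : NoU P
  sp : NoSp P
  o : NoO P

/-! ### The boxes -/

/-- [C-Cases] Aschbacher's case division -/
def BoxCases : Prop := ∀ (A : Type) [Ring A] [StarRing A] [Finite A] (F : FR A) (G H : Subgroup (RingAut A)) (m p : ℕ),
  Ctx F G H m p → ParD F H ∨ NSD F H ∨ (∃ D : Finset A, Fr D ∧ Inv H D) ∨ FldD H ∨ TenD H ∨ ExD F H ∨ SimD F H

/-- [C-Par] -/
def BoxPar : Prop := No fun _ _ _ F H _ => ParD F H
/-- [C-NS] -/
def BoxNS : Prop := No fun _ _ _ F H _ => NSD F H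
/-- [C-Big] -/
def BoxBigL : Prop := NoL fun _ _ _ _ H r => BigD H r 2
def BoxBigU : Prop := NoU fun _ _ _ _ H r => BigD H r 2
def BoxBigSp : Prop := NoSp fun A _ _ _ H _ => ∃ D : Finset A, Fr D ∧ Inv H D
def BoxBigO : Prop := NoO fun _ _ _ _ H r => BigD H r 3
/-- [C-Tor] -/
def BoxTorL : Prop := NoL fun _ _ _ _ H r => TorD H r 2
def BoxTorU : Prop := NoU fun _ _ _ _ H r => TorD H r 2
def BoxTorO : Prop := NoO fun _ _ _ _ H r => TorD H r 3
/-- [C-Fld] -/
def BoxFldL : Prop := NoL fun _ _ _ _ H _ => FldD H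
def BoxFldU : Prop := NoU fun _ _ _ _ H _ => FldD H
def BoxFldSp : Prop := NoSp fun _ _ _ _ H _ => FldD H
def BoxFldO : Prop := NoO fun _ _ _ _ H _ => FldD H
/-- [C-Ten] -/
def BoxTen : Prop := No fun _ _ _ _ H _ => TenD H
/-- [C-Ext] -/
def BoxExt : Prop := No fun _ _ _ F H _ => ExD F H

/-- all examples inside the projective semilinear groups -/
def Main : Prop := No fun _ _ _ _ _ _ => True

/-- the automorphism of `X` induced by `g` along `e : T ≃* X` -/
def ind {G X : Type} [Group G] [Group X] {T : Subgroup G} (hT : T.Normal) (e : T ≃* X) (g : G) : MulAut X :=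
  MulAut.congr e (MulAut.conjNormal (H := T) g)

/-- [C-B2] `Sp₄(2^a)` with a graph automorphism -/
def BoxB2 : Prop := AllK → ∀ (G : Type) [Group G] [Finite G] (T H : Subgroup G) (m : ℕ) (c : LieCtx T H m 2)
  (K : Type) [Field K] [Fintype K] [CharP K 2] (e : T ≃* PSp 2 K), ¬ HasOwn 2 H → 4 ≤ Fintype.card K →
  (∃ g : G, ind c.as.normal e g ∉ (Cfsg.Agent.ClassicalGeometry.SympAutSemi.Psi 2 K).range) → False

/-- [C-D4] `PΩ₈⁺(q)` -/
def BoxD4 : Prop := (NoO fun _ _ _ _ _ _ => True) → NonOwn fun p T _ =>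
  ∃ (K : Type) (_ : Field K) (_ : Fintype K) (_ : CharP K p), Nonempty (T ≃* POmega K (quadFormPlus 4 K))

/-- [C-Bridge] -/
def BoxBridge : Prop := Main → BoxB2 → BoxD4 → NonOwn fun p T _ => IsCl p T

/-- the boxes with `H ⊓ T` almost simple -/
structure Sims : Prop where
  altBig : BoxSimAltBig
  alt : BoxSimAlt
  spor : BoxSimSpor
  lie : BoxSimLie

/-- [C-Sim] from the abstract boxes to the rings -/
def BoxSim : Prop := Sims → No fun _ _ _ F H _ => SimD F H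

/-- all geometric boxes -/
structure Geo : Prop where
  cases : BoxCases
  par : BoxPar
  ns : BoxNS
  bigL : BoxBigL
  bigU : BoxBigU
  bigSp : BoxBigSp
  bigO : BoxBigO
  torL : BoxTorL
  torU : BoxTorU
  torO : BoxTorO
  fldL : BoxFldL
  fldU : BoxFldU
  fldSp : BoxFldSp
  fldO : BoxFldO
  ten : BoxTen
  ext : BoxExt
  sim : BoxSim
  b2 : BoxB2
  d4 : BoxD4
  bridge : BoxBridge

theorem main_of (g : Geo) (s : Sims) : Main := by
  have hs := g.sim s
  refine ⟨?_, ?_, ?_, ?_⟩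
  · intro K _ _ n F G H m p k c _
    rcases g.cases _ F G H m p c with h | h | h | h | h | h | h
    · exact g.par.l K n F G H m p k c h
    · exact g.ns.l K n F G H m p k c h
    · by_cases hb : BigD H rkL 2
      · exact g.bigL K n F G H m p k c hb
      · exact g.torL K n F G H m p k c ⟨h, hb⟩
    · exact g.fldL K n F G H m p k c h
    · exact g.ten.l K n F G H m p k c h
    · exact g.ext.l K n F G H m p k c h
    · exact hs.l K n F G H m p k c h
  · intro K V _ _ _ _ _ f F q G H m p k c _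
    rcases g.cases _ F G H m p c with h | h | h | h | h | h | h
    · exact g.par.u K V f F q G H m p k c h
    · exact g.ns.u K V f F q G H m p k c h
    · by_cases hb : BigD H (rk f) 2
      · exact g.bigU K V f F q G H m p k c hb
      · exact g.torU K V f F q G H m p k c ⟨h, hb⟩
    · exact g.fldU K V f F q G H m p k c h
    · exact g.ten.u K V f F q G H m p k c h
    · exact g.ext.u K V f F q G H m p k c h
    · exact hs.u K V f F q G H m p k c h
  · intro K V _ _ _ _ _ f F q G H m p k c _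
    rcases g.cases _ F G H m p c with h | h | h | h | h | h | h
    · exact g.par.sp K V f F q G H m p k c h
    · exact g.ns.sp K V f F q G H m p k c h
    · exact g.bigSp K V f F q G H m p k c h
    · exact g.fldSp K V f F q G H m p k c h
    · exact g.ten.sp K V f F q G H m p k c h
    · exact g.ext.sp K V f F q G H m p k c h
    · exact hs.sp K V f F q G H m p k c h
  · intro K V _ _ _ _ _ f F q G H m p k c _
    rcases g.cases _ F G H m p c with h | h | h | h | h | h | h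
    · exact g.par.o K V f F q G H m p k c h
    · exact g.ns.o K V f F q G H m p k c h
    · by_cases hb : BigD H (rk f) 3
      · exact g.bigO K V f F q G H m p k c hb
      · exact g.torO K V f F q G H m p k c ⟨h, hb⟩
    · exact g.fldO K V f F q G H m p k c h
    · exact g.ten.o K V f F q G H m p k c h
    · exact g.ext.o K V f F q G H m p k c h
    · exact hs.o K V f F q G H m p k c h

/-- **the classical socles** -/
theorem noCl_of (g : Geo) (s : Sims) : NonOwn fun p T _ => IsCl p T := g.bridge (main_of g s) g.b2 g.d4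

theorem boxesCl_of (h : NonOwn fun p T _ => IsCl p T) : BoxesCl where
  l hK G _ _ T H m p c o hP := h hK G T H m p c o (Or.inl hP)
  sp hK G _ _ T H m p c o hP := h hK G T H m p c o (Or.inr (Or.inl hP))
  u hK G _ _ T H m p c o hP := h hK G T H m p c o (Or.inr (Or.inr (Or.inl hP)))
  o hK G _ _ T H m p c o hP := h hK G T H m p c o (Or.inr (Or.inr (Or.inr (Or.inl hP))))
  op hK G _ _ T H m p c o hP := h hK G T H m p c o (Or.inr (Or.inr (Or.inr (Or.inr (Or.inl hP)))))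
  om hK G _ _ T H m p c o hP := h hK G T H m p c o (Or.inr (Or.inr (Or.inr (Or.inr (Or.inr hP)))))

end Cl

end Cfsg.Agent.TH
end
end
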